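import Groth.Agent.WeilProj8.Rep
import Groth.Agent.MorProj.VeryAmple
import Groth.Agent.PicLib.FormalGen

/-!
# Embedding data of affine schemes over projective families over affine bases
-/

set_option autoImplicit false
set_option linter.style.haveILetI false
set_option linter.unusedSectionVars false
set_option backward.isDefEq.respectTransparency false
set_option maxHeartbeats 1000000

universe u

open CategoryTheory CategoryTheory.Limits AlgebraicGeometry Opposite TopologicalSpace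
open Groth.Agent.Coherent Groth.Agent.PicLib Groth.Agent.AmpleLib

noncomputable section

namespace Groth.Agent.WeilProj8

/-- `O(1)` is ample on projective space over any ring. -/
theorem isAmple_twist_projSpace (n : ℕ) (R : Type u) [CommRing R] :
    CohB1.IsAmple (Twist.twistProjSpace n R 1) :=
  haveI := Classical.decEq (MvPolynomial (Fin (n + 1)) R)
  TwistLib.G.isAmple_twist_one (𝒜 := CohB1.polyGrading n R)
    (Finset.univ.image MvPolynomial.X) (by
      intro g hg
      obtain ⟨j, -, rfl⟩ := Finset.mem_image.1 hg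
      exact MvPolynomial.isHomogeneous_X _ j)
    (by
      rw [Finset.coe_image, Finset.coe_univ, Set.image_univ]
      refine le_antisymm (ProjLib.irrelevant_le_span_X n _) (Ideal.span_le.2 ?_)
      rintro _ ⟨j, rfl⟩
      exact HomogeneousIdeal.mem_irrelevant_of_mem (CohB1.polyGrading n _) Nat.one_pos
        (MvPolynomial.isHomogeneous_X _ j))

/-- A quasi-compact scheme with an ample module is covered by finitely many affine loci of sections of one power. -/
theorem exists_power_cover {X : Scheme.{u}} {L : X.Modules} (hL : CohB1.IsAmple L) :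
    ∃ (M : X.Modules) (I : Type u) (_ : Finite I) (a : I → Γ(M, ⊤)), PicF.IsInvertible M ∧
      (∀ i, IsAffineOpen (glocus M (a i))) ∧ ∀ x : X, ∃ i, x ∈ glocus M (a i) := by
  classical
  obtain ⟨hinv, hc, h⟩ := isAmple_iff_affGlocus.1 hL
  choose m hm b hb _ ha using h
  obtain ⟨s, hs⟩ := isCompact_univ.elim_finite_subcover (fun x => (glocus _ (b x) : Set X))
    (fun x => (glocus _ (b x)).2) fun x _ => Set.mem_iUnion.2 ⟨x, hb x⟩
  let N := s.prod m
  have hdiv : ∀ x : (s : Set X), ∃ k, 0 < k ∧ N = m x.1 * k := fun x => by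
    obtain ⟨k, hk⟩ := Finset.dvd_prod_of_mem m x.2
    have hN : 0 < N := Finset.prod_pos fun y _ => hm y
    exact ⟨k, Nat.pos_of_ne_zero fun e => by subst e; exact hN.ne' (hk.trans (mul_zero _)), hk⟩
  choose k hk hNk using hdiv
  have hb' : ∀ x : (s : Set X), ∃ b' : Γ(CohB1.tensorPow L N, ⊤), glocus _ b' = glocus _ (b x.1) := fun x => by
    rw [hNk x]
    exact exists_glocus_pow hinv (m x.1) (b x.1) (k x) (hk x)
  choose b' hb'e using hb'
  refine ⟨CohB1.tensorPow L N, (s : Set X), inferInstance, b', isInvertible_tensorPow hinv N,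
    fun x => (hb'e x).symm ▸ ha x.1, fun y => ?_⟩
  obtain ⟨x, hx, hy⟩ := Set.mem_iUnion₂.1 (hs (Set.mem_univ y))
  exact ⟨⟨x, hx⟩, (hb'e ⟨x, hx⟩).symm ▸ hy⟩

/-- A function on the locus of the pullback of a section is the coefficient of a section of the pullback of a
power. -/
theorem exists_sec {X Y : Scheme.{u}} [CompactSpace Y] [QuasiSeparatedSpace Y] (r : Y ⟶ X) {M : X.Modules}
    (hM : PicF.IsInvertible M) (a : Γ(M, ⊤)) (f : Γ(Y, r ⁻¹ᵁ glocus M a)) :
    ∃ (n : ℕ) (s : Γ((Scheme.Modules.pullback r).obj (CohB1.tensorPow M n), ⊤)),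
      (isGen_pullSec r (isGen_powSec (isGen_glocus a) n) (isInvertible_tensorPow hM n)).coef le_rfl
        (resM _ le_top s) = f := by
  have hg := glocus_pullSec (σ := r) hM a
  obtain ⟨n, t, ht⟩ := exists_extend_pow (PicLoc.isInvertible_pullback r hM) (a := pullSec r a) (res hg.le f)
  obtain ⟨e, he⟩ := exists_pullPowIso r hM n
  refine ⟨n, e.inv.app ⊤ t, IsGen.coef_eq _ _ ?_⟩
  rw [resM_self]
  apply (ConcreteCategory.bijective_of_isIso (C := AddCommGrpCat) (e.hom.app (r ⁻¹ᵁ glocus M a))).1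
  rw [Scheme.Modules.Hom.app_smul, he, app_resM e.hom le_top]
  refine Eq.trans ?_ (congrArg (resM _ le_top) (congrArg (fun z : CohB1.tensorPow ((Scheme.Modules.pullback r).obj M) n ⟶
    CohB1.tensorPow ((Scheme.Modules.pullback r).obj M) n => z.app ⊤ t) e.inv_hom_id).symm)
  show _ = resM _ le_top t
  have h2 := congrArg (resM (CohB1.tensorPow ((Scheme.Modules.pullback r).obj M) n) hg.ge) ht
  refine Eq.trans ?_ (h2.symm.trans (resM_resM _ _ _ _))
  rw [resM_smul, resM_powSec, resM_resM, ← resM_pullSec r le_top a]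
  refine congrArg (· • _) ?_
  simp only [res, ← ConcreteCategory.comp_apply, ← Functor.map_comp]
  rw [Subsingleton.elim (_ ≫ _) (𝟙 _), CategoryTheory.Functor.map_id]
  rfl

/-- A morphism to affine space over an affine scheme is a closed immersion if its coordinates generate. -/
theorem isClosedImmersion_of_adjoin {V W : Scheme.{u}} [IsAffine V] [IsAffine W] {J : Type u} [Finite J] (f : V ⟶ W)
    (g : V ⟶ AffineSpace J W) (hg : g ≫ AffineSpace J W ↘ W = f) (G : Set Γ(V, ⊤))
    (hG : Subring.closure (Set.range f.appTop ∪ G) = ⊤) (hc : ∀ b ∈ G, ∃ j, g.appTop (AffineSpace.coord W j) = b) :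
    IsClosedImmersion g := by
  refine IsClosedImmersion.of_surjective_of_isAffine g ?_
  have : (⊤ : Subring Γ(V, ⊤)) ≤ g.appTop.hom.range := by
    rw [← hG, Subring.closure_le]
    rintro b (⟨c, rfl⟩ | hb)
    · subst hg
      exact ⟨(AffineSpace J W ↘ W).appTop c, rfl⟩
    · obtain ⟨j, hj⟩ := hc b hb
      exact ⟨_, hj⟩
  exact fun b => this (Subring.mem_top b)

theorem appLE_topIso {Y : Scheme.{u}} (V : Y.Opens) (h : (⊤ : V.toScheme.Opens) ≤ V.ι ⁻¹ᵁ V)
    (b : Γ(V.toScheme, ⊤)) : V.ι.appLE V ⊤ h (V.topIso.hom b) = b := by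
  have e : V.topIso.hom ≫ V.ι.appLE V ⊤ h = 𝟙 _ := by
    simp only [Scheme.Opens.topIso_hom, Scheme.Hom.appLE, Scheme.Opens.ι_app]
    erw [← Functor.map_comp, ← Functor.map_comp]
    rw [Subsingleton.elim (_ ≫ _) (𝟙 _), CategoryTheory.Functor.map_id]
    rfl
  exact ConcreteCategory.congr_hom e b

theorem exists_closure_eq_top {A B : Type u} [CommRing A] [CommRing B] (f : A →+* B) (hf : f.FiniteType) :
    ∃ G : Finset B, Subring.closure (Set.range f ∪ ↑G) = ⊤ := by
  letI := f.toAlgebra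
  obtain ⟨G, hG⟩ := (hf : Algebra.FiniteType A B).out
  refine ⟨G, ?_⟩
  have h : (Algebra.adjoin A (G : Set B)).toSubring = ⊤ := by rw [hG]; rfl
  rw [Algebra.adjoin_eq_ring_closure] at h
  exact h

variable {k : Type u} [Field k] {X S XS Y : Scheme.{u}} {p : X ⟶ Spec (CommRingCat.of k)} [IsProper p]
  {σS : S ⟶ Spec (CommRingCat.of k)} {qS : XS ⟶ X} {πS : XS ⟶ S}

theorem isClosedImmersion_jY {y : Y ⟶ XS} (D : Emb p σS qS πS y) (i : D.I) (V : X.Opens) (e : D.U i = V)
    (hW : IsAffineOpen (qS ⁻¹ᵁ V)) (hYW : IsAffineOpen (y ⁻¹ᵁ (qS ⁻¹ᵁ V)))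
    (G : Set Γ((y ⁻¹ᵁ (qS ⁻¹ᵁ V)).toScheme, ⊤))
    (hG : Subring.closure (Set.range (y ∣_ (qS ⁻¹ᵁ V)).appTop ∪ G) = ⊤)
    (hc : ∀ b ∈ G, ∃ j, ∀ hle, co (D.inv j) (D.isGen i j) (y ≫ qS) (D.s j) (y ⁻¹ᵁ (qS ⁻¹ᵁ V)).ι hle = b) :
    IsClosedImmersion (D.jY i) := by
  subst e
  haveI : IsAffine (qS ⁻¹ᵁ D.U i).toScheme := hW
  haveI : IsAffine (D.YU i).toScheme := hYW
  haveI : Finite D.J := D.finJ
  refine isClosedImmersion_of_adjoin (y ∣_ (qS ⁻¹ᵁ D.U i)) (D.jY i) (AffineSpace.homOfVector_over _ _) G hG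
    fun b hb => ?_
  obtain ⟨j, hj⟩ := hc b hb
  exact ⟨j, (AffineSpace.homOfVector_appTop_coord _ _ _).trans (hj _)⟩

/-- An affine scheme of finite type over an ample family over an affine base embeds. -/
theorem exists_emb [IsAffine S] (hsq : IsPullback qS πS p σS) {L : X.Modules} (hL : CohB1.IsAmple L)
    (y : Y ⟶ XS) [IsAffineHom y] [LocallyOfFiniteType y] : ∃ D : Emb p σS qS πS y, D.IsClosedEmb := by
  classical
  haveI : IsLocallyNoetherian X := LocallyOfFiniteType.isLocallyNoetherian p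
  haveI : CompactSpace X := QuasiCompact.compactSpace_of_compactSpace p
  haveI : IsAffineHom qS := MorphismProperty.of_isPullback (P := @IsAffineHom) hsq.flip inferInstance
  haveI : IsAffineHom (y ≫ qS) := inferInstance
  haveI : CompactSpace Y := QuasiCompact.compactSpace_of_compactSpace (y ≫ qS)
  haveI : QuasiSeparatedSpace X := quasiSeparatedSpace_of_quasiSeparated p
  haveI : QuasiSeparatedSpace Y := quasiSeparatedSpace_of_quasiSeparated (y ≫ qS)
  obtain ⟨M, I, hI, a, hM, haff, hcov⟩ := exists_power_cover hL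
  have hW : ∀ i, IsAffineOpen (qS ⁻¹ᵁ glocus M (a i)) := fun i => (haff i).preimage qS
  have hYW : ∀ i, IsAffineOpen (y ⁻¹ᵁ (qS ⁻¹ᵁ glocus M (a i))) := fun i => (hW i).preimage y
  have hgen : ∀ i, ∃ G : Finset Γ((y ⁻¹ᵁ (qS ⁻¹ᵁ glocus M (a i))).toScheme, ⊤),
      Subring.closure (Set.range (y ∣_ (qS ⁻¹ᵁ glocus M (a i))).appTop ∪ ↑G) = ⊤ := fun i => by
    haveI : IsAffine (qS ⁻¹ᵁ glocus M (a i)).toScheme := hW i
    haveI : IsAffine (y ⁻¹ᵁ (qS ⁻¹ᵁ glocus M (a i))).toScheme := hYW i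
    haveI : LocallyOfFiniteType (y ∣_ (qS ⁻¹ᵁ glocus M (a i))) :=
      MorphismProperty.of_isPullback (P := @LocallyOfFiniteType)
        (isPullback_morphismRestrict y (qS ⁻¹ᵁ glocus M (a i))).flip inferInstance
    exact exists_closure_eq_top _
      ((HasRingHomProperty.iff_of_isAffine (P := @LocallyOfFiniteType)).1
        (inferInstance : LocallyOfFiniteType (y ∣_ (qS ⁻¹ᵁ glocus M (a i)))))
  choose G hG using hgen
  choose n s hs using fun j : Σ i, {b // b ∈ G i} =>
    exists_sec (y ≫ qS) hM (a j.1) ((y ≫ qS) ⁻¹ᵁ glocus M (a j.1) |>.topIso.hom (j.2.1 : Γ((y ⁻¹ᵁ (qS ⁻¹ᵁ glocus M (a j.1))).toScheme, ⊤)))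
  choose hh tt htt using fun j : Σ i, {b // b ∈ G i} =>
    exists_basis p (Groth.Agent.PicLib.isCoh_of_isInvertible (isInvertible_tensorPow hM (n j)))
  let D : Emb p σS qS πS y :=
    { J := Σ i, {b // b ∈ G i}
      finJ := inferInstance
      I := I
      finI := hI
      Λ := fun j => CohB1.tensorPow M (n j)
      inv := fun j => isInvertible_tensorPow hM (n j)
      U := fun i => glocus M (a i)
      aff := haff
      cover := hcov
      gen := fun i j => powSec (resM M le_top (a i)) (n j)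
      isGen := fun i j => isGen_powSec (isGen_glocus (a i)) (n j)
      s := s
      h := hh
      t := tt
      basis := htt }
  refine ⟨D, fun i => isClosedImmersion_jY D i (glocus M (a i)) rfl (hW i) (hYW i) (G i : Set _) ?_ ?_⟩
  · exact hG i
  intro b hb
  refine ⟨(⟨i, b, hb⟩ : Σ i, {b // b ∈ G i}), fun hle => ?_⟩
  refine Eq.trans (congrArg ((y ⁻¹ᵁ (qS ⁻¹ᵁ glocus M (a i))).ι.appLE ((y ≫ qS) ⁻¹ᵁ glocus M (a i)) ⊤ hle)
    (hs ⟨i, b, hb⟩)) ?_
  exact appLE_topIso ((y ≫ qS) ⁻¹ᵁ glocus M (a i)) _ b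

end Groth.Agent.WeilProj8
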