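import Groth.Agent.WeilProj8.Rep
import Groth.Agent.HomSch8.Transfer

/-!
# Gluing of the functor of sections
-/

set_option autoImplicit false
set_option linter.style.haveILetI false
set_option linter.unusedSectionVars false
set_option backward.isDefEq.respectTransparency false
set_option maxHeartbeats 1000000

universe u

open CategoryTheory CategoryTheory.Limits AlgebraicGeometry Opposite TopologicalSpace
open Groth.Agent.Quot8

noncomputable section

namespace Groth.Agent.WeilProj8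

variable {S XS Y : Scheme.{u}} (πS : XS ⟶ S) (y : Y ⟶ XS)

/-- The sections over the family of `T`. -/
abbrev Sec (T : Over S) : Type u := {h : PicF.XT πS T ⟶ Y // h ≫ y = pullback.fst πS T.hom}

variable {πS y}

/-- Base change of sections. -/
def pullS {T T' : Over S} (m : T' ⟶ T) (h : Sec πS y T) : Sec πS y T' :=
  ⟨PicF.XTmap πS m ≫ h.1, by rw [Category.assoc, h.2, FGA.XTmap_fst]⟩

theorem pullS_id {T : Over S} (h : Sec πS y T) : pullS (𝟙 T) h = h :=
  Subtype.ext (show PicF.XTmap πS (𝟙 T) ≫ h.1 = h.1 by rw [XTmap_id, Category.id_comp])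

theorem pullS_comp {T T' T'' : Over S} (a : T' ⟶ T) (b : T'' ⟶ T') (h : Sec πS y T) :
    pullS (b ≫ a) h = pullS b (pullS a h) :=
  Subtype.ext (show PicF.XTmap πS (b ≫ a) ≫ h.1 = PicF.XTmap πS b ≫ PicF.XTmap πS a ≫ h.1 by
    rw [XTmap_comp, Category.assoc])

variable (πS y)

/-- The functor of sections. -/
def secFun : (Over S)ᵒᵖ ⥤ Type u where
  obj T := Sec πS y T.unop
  map t := TypeCat.ofHom fun h => pullS t.unop h
  map_id T := ConcreteCategory.hom_ext _ _ fun h => pullS_id h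
  map_comp a b := ConcreteCategory.hom_ext _ _ fun h => pullS_comp a.unop b.unop h

section Sheaf

variable {T : Over S} {ι : Type u} {V : ι → Over S} (a : ∀ i, V i ⟶ T) [∀ i, IsOpenImmersion (a i).left]
  (hcov : ∀ t : T.left, ∃ i, t ∈ (a i).left.opensRange)

/-- The family over a cover. -/
def famCover : (PicF.XT πS T).OpenCover :=
  haveI : ∀ i, IsOpenImmersion (PicF.XTmap πS (a i)) := fun i =>
    MorphismProperty.of_isPullback (P := @IsOpenImmersion) (FlatMor12.FlatFun.isPullback_XTmap πS (a i)).flip inferInstance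
  { I₀ := ι
    X := fun i => PicF.XT πS (V i)
    f := fun i => PicF.XTmap πS (a i)
    mem₀ := by
      rw [Scheme.presieve₀_mem_precoverage_iff]
      refine ⟨fun x => ?_, fun i => inferInstance⟩
      obtain ⟨i, hi⟩ := hcov (PicF.XTproj πS T x)
      exact ⟨i, (FlatMor12.FlatFun.exists_point πS (a i) x hi).2⟩ }

include hcov in
theorem pullS_ext_cover {g g' : Sec πS y T} (h : ∀ i, pullS (a i) g = pullS (a i) g') : g = g' :=
  Subtype.ext ((famCover πS a hcov).hom_ext _ _ fun i => congrArg Subtype.val (h i))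

include hcov in
theorem exists_glueS (x : ∀ i, Sec πS y (V i))
    (hx : ∀ (i l : ι) (W : Over S) (c : W ⟶ V i) (d : W ⟶ V l), c ≫ a i = d ≫ a l → pullS c (x i) = pullS d (x l)) :
    ∃ g : Sec πS y T, ∀ i, pullS (a i) g = x i := by
  let 𝒰 := famCover πS a hcov
  let g₀ : PicF.XT πS T ⟶ Y := 𝒰.glueMorphisms (fun i => (x i).1) fun i j => by
    obtain ⟨W, c, d, r, hcd, hr, hr'⟩ := HomSch8.exists_overlap πS (a i) (a j)
    show pullback.fst (PicF.XTmap πS (a i)) (PicF.XTmap πS (a j)) ≫ (x i).1 =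
      pullback.snd (PicF.XTmap πS (a i)) (PicF.XTmap πS (a j)) ≫ (x j).1
    rw [← hr, ← hr', Category.assoc, Category.assoc]
    exact congrArg (r ≫ ·) (congrArg Subtype.val (hx i j W c d hcd))
  have hg : ∀ i, PicF.XTmap πS (a i) ≫ g₀ = (x i).1 := fun i => 𝒰.ι_glueMorphisms _ _ i
  refine ⟨⟨g₀, 𝒰.hom_ext _ _ fun i => ?_⟩, fun i => Subtype.ext (hg i)⟩
  show PicF.XTmap πS (a i) ≫ g₀ ≫ y = PicF.XTmap πS (a i) ≫ pullback.fst πS T.hom
  rw [reassoc_of% hg, (x i).2, FGA.XTmap_fst]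

end Sheaf

theorem isSheaf_secFun : Presheaf.IsSheaf (Scheme.zariskiTopology.over S) (secFun πS y) := by
  rw [isSheaf_iff_isSheaf_of_type]
  intro T R hR x hx
  obtain ⟨(𝒱 : Scheme.OpenCover.{u} T.left), hle⟩ :=
    Scheme.exists_cover_of_mem_grothendieckTopology ((GrothendieckTopology.mem_over_iff _ R).1 hR)
  let V : 𝒱.I₀ → Over S := fun i => Over.mk (𝒱.f i ≫ T.hom)
  let a : ∀ i, V i ⟶ T := fun i => Over.homMk (𝒱.f i) rfl
  haveI : ∀ i, IsOpenImmersion (a i).left := fun i => (inferInstance : IsOpenImmersion (𝒱.f i))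
  have hmem : ∀ i, R (a i) := fun i => (Sieve.overEquiv_iff R (𝒱.f i)).1 (hle _ _ (Presieve.ofArrows.mk i))
  have hcov : ∀ y : T.left, ∃ i, y ∈ (a i).left.opensRange := fun y => ⟨𝒱.idx y, 𝒱.covers y⟩
  obtain ⟨G, hG⟩ := exists_glueS πS y a hcov (fun i => x (a i) (hmem i)) fun i l W b c h =>
    hx b c (hmem i) (hmem l) h
  refine ⟨G, fun W g hg => ?_, fun G' hG' => ?_⟩
  · let P : 𝒱.I₀ → Over S := fun i => Over.mk (pullback.fst g.left (𝒱.f i) ≫ W.hom)
    let c : ∀ i, P i ⟶ W := fun i => Over.homMk (pullback.fst g.left (𝒱.f i)) rfl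
    haveI : ∀ i, IsOpenImmersion (c i).left := fun i =>
      (inferInstance : IsOpenImmersion (pullback.fst g.left (𝒱.f i)))
    refine pullS_ext_cover πS y c (fun y => ?_) fun i => ?_
    · obtain ⟨i, z, hz⟩ := hcov (g.left y)
      obtain ⟨w, hw, -⟩ := Scheme.Pullback.exists_preimage_pullback y z hz.symm
      exact ⟨i, w, hw⟩
    · let d : P i ⟶ V i := Over.homMk (pullback.snd g.left (𝒱.f i)) (by
        show _ ≫ 𝒱.f i ≫ T.hom = pullback.fst g.left (𝒱.f i) ≫ W.hom
        rw [← pullback.condition_assoc, Over.w g])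
      have hd : c i ≫ g = d ≫ a i := Over.OverMorphism.ext pullback.condition
      show pullS (c i) (pullS g G) = pullS (c i) (x g hg)
      rw [← pullS_comp, hd, pullS_comp, hG]
      exact (hx (c i) d hg (hmem i) hd).symm
  · refine pullS_ext_cover πS y a hcov fun i => ?_
    rw [hG]
    exact hG' _ (hmem i)

variable {πS y}

section Conj

variable {S' XS' Y' : Scheme.{u}} {j : S' ⟶ S} {π' : XS' ⟶ S'} {p : XS' ⟶ XS} {q : Y' ⟶ Y} {y' : Y' ⟶ XS'}
  (hsq : IsPullback p π' πS j) (hY : IsPullback q y' y p)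

/-- Sections over the old base as sections over the new one. -/
def conjS (T : Over S') (h : Sec πS y ((Over.map j).obj T)) : Sec π' y' T :=
  ⟨hY.lift ((bcFam hsq T).hom ≫ h.1) (pullback.fst π' T.hom) (by rw [Category.assoc, h.2, bcFam_hom_fst]),
    hY.lift_snd _ _ _⟩

theorem conjS_fst (T : Over S') (h : Sec πS y ((Over.map j).obj T)) :
    (conjS hsq hY T h).1 ≫ q = (bcFam hsq T).hom ≫ h.1 :=
  hY.lift_fst _ _ _

theorem bijective_conjS (T : Over S') : Function.Bijective (conjS hsq hY T) := by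
  refine ⟨fun a b h => Subtype.ext ?_, fun g => ?_⟩
  · have e := congrArg (fun z : Sec π' y' T => z.1 ≫ q) h
    simp only [conjS_fst] at e
    exact (cancel_epi _).1 e
  · refine ⟨⟨(bcFam hsq T).inv ≫ g.1 ≫ q, ?_⟩, Subtype.ext (hY.hom_ext ?_ ?_)⟩
    · rw [Category.assoc, Category.assoc, hY.w, reassoc_of% g.2, Iso.inv_comp_eq, bcFam_hom_fst]
    · rw [conjS_fst]
      exact (bcFam hsq T).hom_inv_id_assoc _
    · rw [(conjS hsq hY T _).2, g.2]

theorem pullS_conjS {T T₁ : Over S'} (g : T₁ ⟶ T) (h : Sec πS y ((Over.map j).obj T)) :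
    pullS g (conjS hsq hY T h) = conjS hsq hY T₁ (pullS ((Over.map j).map g) h) := by
  refine Subtype.ext (hY.hom_ext ?_ ?_)
  · rw [conjS_fst, pullS, pullS, Category.assoc, conjS_fst, ← Category.assoc, ← Category.assoc, XTmap_bcFam]
  · rw [(pullS g _).2, (conjS hsq hY T₁ _).2]

end Conj

/-- Representability of sections is local on the base. -/
theorem isWR_of_local
    (h : ∀ s : S, ∃ W : S.Opens, s ∈ W ∧ IsWR (πS ∣_ W) (y ∣_ (πS ⁻¹ᵁ W))) : IsWR πS y := by
  choose W hsW V v hv0 haff hfp hv using h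
  have hsq : ∀ s, IsPullback (πS ⁻¹ᵁ W s).ι (πS ∣_ W s) πS (W s).ι := fun s => (isPullback_morphismRestrict πS (W s)).flip
  have hY : ∀ s, IsPullback (y ⁻¹ᵁ (πS ⁻¹ᵁ W s)).ι (y ∣_ (πS ⁻¹ᵁ W s)) y (πS ⁻¹ᵁ W s).ι := fun s =>
    (isPullback_morphismRestrict y _).flip
  choose w hw using fun s => (bijective_conjS (hsq s) (hY s) (V s)).2 ⟨v s, hv0 s⟩
  let Z : S → Over S := fun s => (Over.map (W s).ι).obj (V s)
  have hlift : ∀ (s : S) (T : Over S), Set.range T.hom ⊆ (W s : Set S) → ∀ φ : Sec πS y T,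
      ∃! z : T ⟶ Z s, pullS z (w s) = φ := by
    intro s T hT φ
    let l := IsOpenImmersion.lift (W s).ι T.hom (by rw [Scheme.Opens.range_ι]; exact hT)
    have hl : l ≫ (W s).ι = T.hom := IsOpenImmersion.lift_fac _ _ _
    let T' : Over (W s).toScheme := Over.mk l
    let a : (Over.map (W s).ι).obj T' ≅ T := Over.isoMk (Iso.refl _) ((Category.id_comp _).trans hl.symm)
    let φ' := conjS (hsq s) (hY s) T' (pullS a.hom φ)
    obtain ⟨g, hg, hgu⟩ := hv s T' φ'.1 φ'.2
    have hg' : pullS ((Over.map (W s).ι).map g) (w s) = pullS a.hom φ := by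
      refine (bijective_conjS (hsq s) (hY s) T').1 ?_
      rw [← pullS_conjS, hw s]
      exact Subtype.ext hg
    refine ⟨a.inv ≫ (Over.map (W s).ι).map g, ?_, fun z hz => ?_⟩
    · show pullS _ (w s) = φ
      rw [pullS_comp, hg', ← pullS_comp, Iso.inv_hom_id, pullS_id]
    · have hzV : z.left ≫ (V s).hom = l := by
        rw [← cancel_mono (W s).ι, Category.assoc, hl]
        exact Over.w z
      let g' : T' ⟶ V s := Over.homMk z.left hzV
      have e : g' = g := by
        refine hgu g' ?_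
        show (pullS g' ⟨v s, hv0 s⟩ : Sec (πS ∣_ W s) (y ∣_ (πS ⁻¹ᵁ W s)) T').1 = _
        rw [← hw s, pullS_conjS]
        refine congrArg (fun q => (conjS (hsq s) (hY s) T' q).1) ?_
        rw [← show pullS z (w s) = φ from hz, ← pullS_comp]
        exact congrArg (fun q => pullS q (w s)) (Over.OverMorphism.ext (Category.id_comp z.left).symm)
      refine Over.OverMorphism.ext ?_
      show z.left = 𝟙 _ ≫ g.left
      rw [Category.id_comp, ← e]
      rfl
  have hsub : ∀ (s : S) {T : Over S} (z : T ⟶ Z s), Set.range T.hom ⊆ (W s : Set S) := fun s T z => by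
    rw [← Over.w z]
    rintro _ ⟨x, rfl⟩
    exact ((V s).hom (z.left x)).2
  let pp : secFun πS y ⟶ yoneda.obj (Over.mk (𝟙 S)) :=
    { app := fun T => TypeCat.ofHom fun _ => (Over.homMk T.unop.hom (Category.comp_id _) : T.unop ⟶ Over.mk (𝟙 S))
      naturality := fun T T' t => ConcreteCategory.hom_ext _ _ fun φ => Over.OverMorphism.ext (Over.w t.unop).symm }
  let jj : ∀ s, (yoneda.obj (Z s) : (Over S)ᵒᵖ ⥤ Type u) ⟶ secFun πS y := fun s =>
    { app := fun T => TypeCat.ofHom fun z => pullS z (w s)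
      naturality := fun T T' t => ConcreteCategory.hom_ext _ _ fun z => pullS_comp z t.unop (w s) }
  obtain ⟨R, ⟨rep⟩⟩ := Misc15.OverGlue.exists_representableBy (secFun πS y) pp W
    (fun T φ => eq_top_iff.2 fun x _ => Opens.mem_iSup.2 ⟨T.hom x, hsW _⟩) Z jj
    (fun s T z z' hzz => (hlift s T (hsub s z) _).unique hzz rfl)
    (fun s T z => hsub s z)
    (fun s T φ hφ => ⟨(hlift s T hφ φ).choose, (hlift s T hφ φ).choose_spec.1⟩)
    (isSheaf_secFun πS y)
  let U : Sec πS y R := rep.homEquiv (𝟙 R)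
  have hrep : ∀ {T : Over S} (g : T ⟶ R), rep.homEquiv g = pullS g U := fun {T} g =>
    (congrArg rep.homEquiv (Category.comp_id g).symm).trans (rep.homEquiv_comp g (𝟙 R))
  have huniv : ∀ (T : Over S) (φ : Sec πS y T), ∃! g : T ⟶ R, pullS g U = φ := fun T φ =>
    ⟨rep.homEquiv.symm φ, (hrep _).symm.trans (rep.homEquiv.apply_symm_apply φ), fun g hg =>
      (rep.homEquiv.symm_apply_apply g).symm.trans (congrArg rep.homEquiv.symm ((hrep g).trans hg))⟩
  have hloc : ∀ s, ∃ z : (R.hom ⁻¹ᵁ W s).toScheme ⟶ (V s).left, IsIso z ∧ R.hom ∣_ W s = z ≫ (V s).hom := by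
    intro s
    let RW : Over S := Over.mk ((R.hom ⁻¹ᵁ W s).ι ≫ R.hom)
    let incl : RW ⟶ R := Over.homMk (R.hom ⁻¹ᵁ W s).ι rfl
    have hRW : Set.range RW.hom ⊆ (W s : Set S) := by
      rintro _ ⟨x, rfl⟩
      exact x.2
    obtain ⟨z, hz, -⟩ := hlift s RW hRW (pullS incl U)
    obtain ⟨c, hc, -⟩ := huniv (Z s) (w s)
    have hzc : z ≫ c = incl := (huniv RW (pullS incl U)).unique (by
      show pullS (z ≫ c) U = _
      rw [pullS_comp, hc]
      exact hz) rfl
    have hcr : Set.range c.left ⊆ Set.range (R.hom ⁻¹ᵁ W s).ι := by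
      rw [Scheme.Opens.range_ι]
      rintro _ ⟨x, rfl⟩
      show R.hom (c.left x) ∈ W s
      rw [show R.hom (c.left x) = (Z s).hom x from congr($(Over.w c) x)]
      exact ((V s).hom x).2
    let c' := IsOpenImmersion.lift (R.hom ⁻¹ᵁ W s).ι c.left hcr
    have hc' : c' ≫ (R.hom ⁻¹ᵁ W s).ι = c.left := IsOpenImmersion.lift_fac _ _ _
    let cO : Z s ⟶ RW := Over.homMk c' (by
      show c' ≫ (R.hom ⁻¹ᵁ W s).ι ≫ R.hom = (Z s).hom
      rw [← Category.assoc, hc']
      exact Over.w c)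
    have hcO : cO ≫ incl = c := Over.OverMorphism.ext hc'
    have h1 : cO ≫ z = 𝟙 (Z s) := by
      refine (hlift s (Z s) (hsub s (𝟙 _)) (w s)).unique ?_ (pullS_id (w s))
      show pullS (cO ≫ z) (w s) = w s
      rw [pullS_comp, hz, ← pullS_comp, hcO, hc]
    haveI : Mono incl := Over.mono_of_mono_left incl
    have h2 : z ≫ cO = 𝟙 RW := by
      rw [← cancel_mono incl, Category.assoc, hcO, hzc, Category.id_comp]
    refine ⟨z.left, ⟨c', congrArg Over.Hom.left h2, congrArg Over.Hom.left h1⟩, ?_⟩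
    rw [← cancel_mono (W s).ι, morphismRestrict_ι, Category.assoc]
    exact (Over.w z).symm
  have hW : iSup W = ⊤ := eq_top_iff.2 fun x _ => Opens.mem_iSup.2 ⟨x, hsW x⟩
  refine ⟨R, U.1, U.2, ?_, ?_, fun T φ hφ => ?_⟩
  · refine IsZariskiLocalAtTarget.of_iSup_eq_top (P := @IsAffineHom) W hW fun s => ?_
    obtain ⟨z, hzI, hz⟩ := hloc s
    haveI := haff s
    show IsAffineHom (R.hom ∣_ W s)
    rw [hz]
    infer_instance
  · refine IsZariskiLocalAtTarget.of_iSup_eq_top (P := @LocallyOfFinitePresentation) W hW fun s => ?_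
    obtain ⟨z, hzI, hz⟩ := hloc s
    haveI := hfp s
    show LocallyOfFinitePresentation (R.hom ∣_ W s)
    rw [hz]
    infer_instance
  · obtain ⟨g, hg, hu⟩ := huniv T ⟨φ, hφ⟩
    exact ⟨g, congrArg Subtype.val hg, fun g' hg' => hu g' (Subtype.ext hg')⟩

end Groth.Agent.WeilProj8
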