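import Groth.Agent.WeilProj8.Sections
import Groth.Agent.SGA3cLib.WeilRes
import Groth.Agent.EGA43.Limit.Basic
import Groth.Agent.S5356

/-!
# Sections of affine schemes over projective families over a field, in coordinates
-/

set_option autoImplicit false
set_option linter.style.haveILetI false
set_option linter.unusedSectionVars false
set_option backward.isDefEq.respectTransparency false
set_option maxHeartbeats 1000000

universe u

open CategoryTheory CategoryTheory.Limits AlgebraicGeometry Opposite TopologicalSpace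
open Groth.Agent.Coherent Groth.Agent.PicLib

noncomputable section

namespace Groth.Agent.WeilProj8

/-- Sections, with a basis of the target spaces. -/
structure Emb {k : Type u} [Field k] {X S XS Y : Scheme.{u}} (p : X ⟶ Spec (CommRingCat.of k))
    (σS : S ⟶ Spec (CommRingCat.of k)) (qS : XS ⟶ X) (πS : XS ⟶ S) (y : Y ⟶ XS) where
  J : Type u
  finJ : Finite J
  I : Type u
  finI : Finite I
  Λ : J → X.Modules
  inv : ∀ j, PicF.IsInvertible (Λ j)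
  U : I → X.Opens
  aff : ∀ i, IsAffineOpen (U i)
  cover : ∀ x : X, ∃ i, x ∈ U i
  gen : ∀ i j, Γ(Λ j, U i)
  isGen : ∀ i j, IsGen (Λ j) (U i) (gen i j)
  s : ∀ j, Γ((Scheme.Modules.pullback (y ≫ qS)).obj (Λ j), ⊤)
  h : J → ℕ
  t : ∀ j, ULift.{u} (Fin (h j)) → Γ(Λ j, ⊤)
  basis : ∀ j, IsBasisOn ((Scheme.Modules.pushforward p).obj (Λ j)) ⊤ (t j)

variable {k : Type u} [Field k] {X S XS Y : Scheme.{u}} {p : X ⟶ Spec (CommRingCat.of k)} [IsProper p]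
  {σS : S ⟶ Spec (CommRingCat.of k)} {qS : XS ⟶ X} {πS : XS ⟶ S}
  (hsq : IsPullback qS πS p σS) {y : Y ⟶ XS} (D : Emb p σS qS πS y)

namespace Emb

/-- The index of the coordinates. -/
abbrev K : Type u := Σ j : D.J, ULift.{u} (Fin (D.h j))

/-- The part of `Y` over a chart. -/
abbrev YU (i : D.I) : Y.Opens := y ⁻¹ᵁ (qS ⁻¹ᵁ D.U i)

/-- The chart embedding. -/
def jY (i : D.I) : (D.YU i).toScheme ⟶ AffineSpace D.J (qS ⁻¹ᵁ D.U i).toScheme :=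
  AffineSpace.homOfVector (y ∣_ (qS ⁻¹ᵁ D.U i)) fun j =>
    co (D.inv j) (D.isGen i j) (y ≫ qS) (D.s j) (D.YU i).ι (fun z _ => z.2)

/-- The embeddings are closed. -/
def IsClosedEmb : Prop := ∀ i, IsClosedImmersion (D.jY i)

variable {T : Scheme.{u}} (t : T ⟶ S)

/-- The projection to `X`. -/
abbrev qT (_ : Emb p σS qS πS y) {T : Scheme.{u}} (t : T ⟶ S) : pullback πS t ⟶ X := pullback.fst πS t ≫ qS

include hsq in
theorem isPullback_qT (D : Emb p σS qS πS y) {T : Scheme.{u}} (t : T ⟶ S) : IsPullback (D.qT t) (pullback.snd πS t) p (t ≫ σS) :=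
  (IsPullback.of_hasPullback πS t).paste_horiz hsq

/-- The sections with given coordinates. -/
def W (a : D.K → Γ(T, ⊤)) (j : D.J) : Γ((Scheme.Modules.pullback (D.qT t)).obj (D.Λ j), ⊤) :=
  ∑ i, (pullback.snd πS t).appTop (a ⟨j, i⟩) •
    (show Γ((Scheme.Modules.pullback (D.qT t)).obj (D.Λ j), ⊤) from pullSec _ (D.t j i))

variable {Z : Scheme.{u}} (h : Z ⟶ pullback πS t) {i : D.I}
  (hle : (⊤ : Z.Opens) ≤ h ⁻¹ᵁ (D.qT t ⁻¹ᵁ D.U i))

/-- The coordinates on a chart. -/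
def C (a : D.K → Γ(T, ⊤)) (j : D.J) : Γ(Z, ⊤) := co (D.inv j) (D.isGen i j) (D.qT t) (D.W t a j) h hle

theorem C_eq (a : D.K → Γ(T, ⊤)) (j : D.J) : D.C t h hle a j =
    ∑ l, h.appTop ((pullback.snd πS t).appTop (a ⟨j, l⟩)) *
      (h ≫ D.qT t).appLE (D.U i) ⊤ hle ((D.isGen i j).coef le_rfl (resM (D.Λ j) le_top (D.t j l))) := by
  rw [C, W, co_sum]
  refine Finset.sum_congr rfl fun l _ => ?_
  rw [co_smul]
  exact congrArg (_ * ·) (co_pullSec (D.inv j) (D.isGen i j) (D.qT t) (D.t j l) h hle)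

/-- The map to the chart of the affine space. -/
def phi (a : D.K → Γ(T, ⊤)) : Z ⟶ AffineSpace D.J (qS ⁻¹ᵁ D.U i).toScheme :=
  AffineSpace.homOfVector (IsOpenImmersion.lift (qS ⁻¹ᵁ D.U i).ι (h ≫ pullback.fst πS t) (by
    rw [Scheme.Opens.range_ι]
    rintro _ ⟨z, rfl⟩
    exact hle (x := z) trivial)) (D.C t h hle a)

theorem phi_over (a : D.K → Γ(T, ⊤)) :
    (D.phi t h hle a ≫ AffineSpace D.J (qS ⁻¹ᵁ D.U i).toScheme ↘ _) ≫ (qS ⁻¹ᵁ D.U i).ι = h ≫ pullback.fst πS t := by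
  rw [phi, AffineSpace.homOfVector_over, IsOpenImmersion.lift_fac]

theorem ext_P {Z : Scheme.{u}} {i : D.I} (f g : Z ⟶ AffineSpace D.J (qS ⁻¹ᵁ D.U i).toScheme)
    (h₁ : (f ≫ AffineSpace D.J (qS ⁻¹ᵁ D.U i).toScheme ↘ _) ≫ (qS ⁻¹ᵁ D.U i).ι =
      (g ≫ AffineSpace D.J (qS ⁻¹ᵁ D.U i).toScheme ↘ _) ≫ (qS ⁻¹ᵁ D.U i).ι)
    (h₂ : ∀ j, f.appTop (AffineSpace.coord _ j) = g.appTop (AffineSpace.coord _ j)) : f = g :=
  AffineSpace.hom_ext ((cancel_mono _).1 h₁) h₂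

theorem jY_over (i : D.I) :
    (D.jY i ≫ AffineSpace D.J (qS ⁻¹ᵁ D.U i).toScheme ↘ _) ≫ (qS ⁻¹ᵁ D.U i).ι = (D.YU i).ι ≫ y := by
  rw [jY, AffineSpace.homOfVector_over, morphismRestrict_ι]

theorem comp_jY {i : D.I} (d : Z ⟶ (D.YU i).toScheme) (j : D.J) :
    (d ≫ D.jY i).appTop (AffineSpace.coord _ j) = co (D.inv j) (D.isGen i j) (y ≫ qS) (D.s j) (d ≫ (D.YU i).ι)
      (fun z _ => (d z).2) := by
  rw [Scheme.Hom.comp_appTop, ConcreteCategory.comp_apply, jY, AffineSpace.homOfVector_appTop_coord]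
  exact (co_comp (D.inv j) (D.isGen i j) (y ≫ qS) (D.s j) (D.YU i).ι (fun z _ => z.2) d _).symm

theorem phi_coord (a : D.K → Γ(T, ⊤)) (j : D.J) :
    (D.phi t h hle a).appTop (AffineSpace.coord _ j) = D.C t h hle a j := by
  rw [phi, AffineSpace.homOfVector_appTop_coord]

theorem co_congr {U : X.Opens} {Λ : X.Modules} (hΛ : PicF.IsInvertible Λ) {σ : Γ(Λ, U)} (hσ : IsGen Λ U σ)
    {W Z : Scheme.{u}} (f : W ⟶ X) (x : Γ((Scheme.Modules.pullback f).obj Λ, ⊤)) {h h' : Z ⟶ W} (e : h = h')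
    (hle : (⊤ : Z.Opens) ≤ h ⁻¹ᵁ (f ⁻¹ᵁ U)) :
    co hΛ hσ f x h hle = co hΛ hσ f x h' (e ▸ hle) := by
  subst e
  rfl

theorem comp_jY' {i : D.I} {Z : Scheme.{u}} (d : Z ⟶ (D.YU i).toScheme) (g : Z ⟶ Y) (hg : d ≫ (D.YU i).ι = g)
    (hle : (⊤ : Z.Opens) ≤ g ⁻¹ᵁ (D.YU i)) (j : D.J) :
    (d ≫ D.jY i).appTop (AffineSpace.coord _ j) = co (D.inv j) (D.isGen i j) (y ≫ qS) (D.s j) g hle :=
  (D.comp_jY d j).trans (co_congr (D.inv j) (D.isGen i j) _ _ hg _)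

theorem appLE_congr {A B : Scheme.{u}} {f f' : A ⟶ B} (e : f = f') (U : B.Opens) (h : (⊤ : A.Opens) ≤ f ⁻¹ᵁ U)
    (h' : (⊤ : A.Opens) ≤ f' ⁻¹ᵁ U) : f.appLE U ⊤ h = f'.appLE U ⊤ h' := by
  subst e
  rfl

theorem jY_over' {i : D.I} {Z : Scheme.{u}} (d : Z ⟶ (D.YU i).toScheme) (g : Z ⟶ Y) (hg : d ≫ (D.YU i).ι = g) :
    ((d ≫ D.jY i) ≫ AffineSpace D.J (qS ⁻¹ᵁ D.U i).toScheme ↘ _) ≫ (qS ⁻¹ᵁ D.U i).ι = g ≫ y := by
  rw [Category.assoc, Category.assoc, ← Category.assoc (D.jY i), jY_over, ← Category.assoc, hg]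

theorem comp_phi {Z' : Scheme.{u}} (m : Z' ⟶ Z) (h' : Z' ⟶ pullback πS t) (hm : m ≫ h = h') (a : D.K → Γ(T, ⊤))
    (hle' : (⊤ : Z'.Opens) ≤ h' ⁻¹ᵁ (D.qT t ⁻¹ᵁ D.U i)) :
    m ≫ D.phi t h hle a = D.phi t h' hle' a := by
  subst hm
  refine D.ext_P _ _ ?_ fun j => ?_
  · rw [Category.assoc, Category.assoc, ← Category.assoc (D.phi t h hle a), phi_over, phi_over, Category.assoc]
  · rw [Scheme.Hom.comp_appTop, ConcreteCategory.comp_apply, phi_coord, phi_coord]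
    exact (co_comp _ _ _ _ h hle m hle').symm

/-- The coordinates of a morphism. -/
def Rel (g : pullback πS t ⟶ Y) (a : D.K → Γ(T, ⊤)) : Prop :=
  ∀ (i : D.I) (Z : Scheme.{u}) (h : Z ⟶ pullback πS t) (hle : (⊤ : Z.Opens) ≤ h ⁻¹ᵁ (D.qT t ⁻¹ᵁ D.U i))
    (hle' : (⊤ : Z.Opens) ≤ (h ≫ g) ⁻¹ᵁ (D.YU i)) (j : D.J),
      D.C t h hle a j = co (D.inv j) (D.isGen i j) (y ≫ qS) (D.s j) (h ≫ g) hle'

/-- The coordinates satisfy the equations of `Y`. -/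
def Good (a : D.K → Γ(T, ⊤)) : Prop :=
  ∀ (i : D.I) (Z : Scheme.{u}) (h : Z ⟶ pullback πS t) (hle : (⊤ : Z.Opens) ≤ h ⁻¹ᵁ (D.qT t ⁻¹ᵁ D.U i)),
    ∃ d : Z ⟶ (D.YU i).toScheme, d ≫ D.jY i = D.phi t h hle a

include hsq in
theorem exists_rel (g : pullback πS t ⟶ Y) (hg : g ≫ y = pullback.fst πS t) :
    ∃ a, D.Rel t g a ∧ D.Good t a := by
  classical
  have hq : g ≫ y ≫ qS = D.qT t := by rw [← Category.assoc, hg]
  choose w hw using fun j => exists_transport (D.inv j) (D.qT t) (y ≫ qS) g hq (D.s j)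
  choose a ha using fun j => (bijective_secs (D.inv j) (D.basis j) (D.isPullback_qT hsq t)).2 (w j)
  refine ⟨fun ji => a ji.1 ji.2, ?_, ?_⟩
  all_goals have hW : ∀ j, D.W t (fun ji => a ji.1 ji.2) j = w j := fun j => ha j
  · intro i Z h hle hle' j
    rw [C, hW]
    exact hw j _ _ (D.isGen i j) Z h hle hle'
  · intro i Z h hle
    have hyU : (⊤ : Z.Opens) ≤ (h ≫ g) ⁻¹ᵁ (D.YU i) := fun z _ => by
      show ((h ≫ g) ≫ y ≫ qS) z ∈ D.U i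
      rw [Category.assoc, hq]
      exact hle (x := z) trivial
    refine ⟨IsOpenImmersion.lift (D.YU i).ι (h ≫ g) (by
      rw [Scheme.Opens.range_ι]
      rintro _ ⟨z, rfl⟩
      exact hyU (x := z) trivial), D.ext_P _ _ ?_ fun j => ?_⟩
    · rw [phi_over, Category.assoc, Category.assoc, ← Category.assoc (D.jY i), jY_over,
        IsOpenImmersion.lift_fac_assoc, Category.assoc, hg]
    · rw [comp_jY, phi_coord, C, hW]
      simp only [IsOpenImmersion.lift_fac]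
      exact (hw j _ _ (D.isGen i j) Z h hle hyU).symm

include hsq in
theorem rel_unique_coords {g : pullback πS t ⟶ Y} (hg : g ≫ y = pullback.fst πS t) {a a' : D.K → Γ(T, ⊤)}
    (ha : D.Rel t g a) (ha' : D.Rel t g a') : a = a' := by
  have hq : g ≫ y ≫ qS = D.qT t := by rw [← Category.assoc, hg]
  funext ⟨j, l⟩
  refine congrFun ((bijective_secs (D.inv j) (D.basis j) (D.isPullback_qT hsq t)).1
    (a₁ := fun l => a ⟨j, l⟩) (a₂ := fun l => a' ⟨j, l⟩) ?_) l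
  refine eq_of_co_eq (D.inv j) (D.qT t) (D.W t a j) (D.W t a' j) fun z => ?_
  obtain ⟨i, hi⟩ := D.cover (D.qT t z)
  have hyU : (⊤ : (D.qT t ⁻¹ᵁ D.U i).toScheme.Opens) ≤
      ((D.qT t ⁻¹ᵁ D.U i).ι ≫ g) ⁻¹ᵁ (D.YU i) := fun z _ => by
    show (((D.qT t ⁻¹ᵁ D.U i).ι ≫ g) ≫ y ≫ qS) z ∈ D.U i
    rw [Category.assoc, hq]
    exact z.2
  exact ⟨D.U i, D.gen i j, D.isGen i j, hi, (ha i _ (D.qT t ⁻¹ᵁ D.U i).ι (fun z _ => z.2) hyU j).trans
    (ha' i _ (D.qT t ⁻¹ᵁ D.U i).ι (fun z _ => z.2) hyU j).symm⟩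

variable (hD : D.IsClosedEmb)

include hD in
theorem rel_unique_hom {g g' : pullback πS t ⟶ Y} (hg : g ≫ y = pullback.fst πS t)
    (hg' : g' ≫ y = pullback.fst πS t) {a : D.K → Γ(T, ⊤)} (ha : D.Rel t g a) (ha' : D.Rel t g' a) : g = g' := by
  choose i hi using fun z : ↥(pullback πS t) => D.cover (D.qT t z)
  have hO : IsOpenCover fun z => D.qT t ⁻¹ᵁ D.U (i z) :=
    eq_top_iff.2 fun z _ => Opens.mem_iSup.2 ⟨z, hi z⟩
  refine ((pullback πS t).openCoverOfIsOpenCover _ hO).hom_ext _ _ fun z => ?_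
  let ι := (D.qT t ⁻¹ᵁ D.U (i z)).ι
  show ι ≫ g = ι ≫ g'
  have hle : ∀ g₀ : pullback πS t ⟶ Y, g₀ ≫ y = pullback.fst πS t →
      (⊤ : (D.qT t ⁻¹ᵁ D.U (i z)).toScheme.Opens) ≤ (ι ≫ g₀) ⁻¹ᵁ (D.YU (i z)) := fun g₀ h0 w _ => by
    show ((ι ≫ g₀) ≫ y ≫ qS) w ∈ D.U (i z)
    rw [Category.assoc, ← Category.assoc g₀, h0]
    exact w.2
  have hr : ∀ g₀ : pullback πS t ⟶ Y, g₀ ≫ y = pullback.fst πS t →
      Set.range (ι ≫ g₀) ⊆ Set.range (D.YU (i z)).ι := fun g₀ h0 => by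
    rw [Scheme.Opens.range_ι]
    rintro _ ⟨w, rfl⟩
    exact hle g₀ h0 (x := w) trivial
  haveI := hD (i z)
  have e : IsOpenImmersion.lift (D.YU (i z)).ι (ι ≫ g) (hr g hg) =
      IsOpenImmersion.lift (D.YU (i z)).ι (ι ≫ g') (hr g' hg') := by
    rw [← cancel_mono (D.jY (i z))]
    refine D.ext_P _ _ ?_ fun j => ?_
    · simp only [Category.assoc]
      rw [← Category.assoc (D.jY (i z)), jY_over, IsOpenImmersion.lift_fac_assoc, IsOpenImmersion.lift_fac_assoc,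
        Category.assoc, Category.assoc, hg, hg']
    · rw [comp_jY, comp_jY]
      simp only [IsOpenImmersion.lift_fac]
      exact (ha _ _ ι (fun w _ => w.2) (hle g hg) j).symm.trans (ha' _ _ ι (fun w _ => w.2) (hle g' hg') j)
  rw [← IsOpenImmersion.lift_fac (D.YU (i z)).ι (ι ≫ g) (hr g hg), e, IsOpenImmersion.lift_fac]

include hD in
theorem exists_hom_of_good {a : D.K → Γ(T, ⊤)} (ha : D.Good t a) :
    ∃ g : pullback πS t ⟶ Y, g ≫ y = pullback.fst πS t ∧ D.Rel t g a := by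
  choose i hi using fun z : ↥(pullback πS t) => D.cover (D.qT t z)
  let O := fun z => D.qT t ⁻¹ᵁ D.U (i z)
  have hO : IsOpenCover O := eq_top_iff.2 fun z _ => Opens.mem_iSup.2 ⟨z, hi z⟩
  let 𝒰 := (pullback πS t).openCoverOfIsOpenCover O hO
  choose d hd using fun z => ha (i z) _ (O z).ι (fun w _ => w.2)
  have hy : ∀ z, (d z ≫ (D.YU (i z)).ι) ≫ y = (O z).ι ≫ pullback.fst πS t := fun z => by
    rw [Category.assoc, ← jY_over, ← Category.assoc, ← Category.assoc, hd, phi_over]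
  -- agreement on overlaps
  have key : ∀ (z z' : ↥(pullback πS t)) {Z : Scheme.{u}} (a₁ : Z ⟶ (O z).toScheme) (a₂ : Z ⟶ (O z').toScheme),
      a₁ ≫ (O z).ι = a₂ ≫ (O z').ι → a₁ ≫ d z ≫ (D.YU (i z)).ι = a₂ ≫ d z' ≫ (D.YU (i z')).ι := by
    intro z z' Z a₁ a₂ hh
    let g₁ := a₁ ≫ d z ≫ (D.YU (i z)).ι
    let g₂ := a₂ ≫ d z' ≫ (D.YU (i z')).ι
    let h₀ := a₁ ≫ (O z).ι
    have e₁ : g₁ ≫ y = h₀ ≫ pullback.fst πS t := by simp only [g₁, h₀, Category.assoc, ← hy]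
    have e₂ : g₂ ≫ y = h₀ ≫ pullback.fst πS t := by
      simp only [g₂, h₀]
      rw [hh]
      simp only [Category.assoc, ← hy]
    have h0z : (⊤ : Z.Opens) ≤ h₀ ⁻¹ᵁ (O z) := fun w _ => (a₁ w).2
    have h0z' : (⊤ : Z.Opens) ≤ h₀ ⁻¹ᵁ (O z') := fun w _ => by
      show h₀ w ∈ O z'
      rw [show h₀ = a₂ ≫ (O z').ι from hh]
      exact (a₂ w).2
    have hg₂ : (⊤ : Z.Opens) ≤ g₂ ⁻¹ᵁ (D.YU (i z)) := fun w _ => by
      show (g₂ ≫ y ≫ qS) w ∈ D.U (i z)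
      rw [← Category.assoc, e₂]
      exact h0z (x := w) trivial
    have hr : Set.range g₂ ⊆ Set.range (D.YU (i z)).ι := by
      rw [Scheme.Opens.range_ι]
      rintro _ ⟨w, rfl⟩
      exact hg₂ (x := w) trivial
    haveI := hD (i z)
    have h₀' : a₂ ≫ (O z').ι = h₀ := hh.symm
    have e : a₁ ≫ d z = IsOpenImmersion.lift (D.YU (i z)).ι g₂ hr := by
      rw [← cancel_mono (D.jY (i z)), Category.assoc, hd, D.comp_phi t _ _ a₁ h₀ rfl a h0z]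
      refine D.ext_P _ _ ?_ fun j => ?_
      · rw [phi_over, D.jY_over' _ g₂ (IsOpenImmersion.lift_fac _ _ _), e₂]
      · rw [phi_coord, D.comp_jY' _ g₂ (IsOpenImmersion.lift_fac _ _ _) hg₂, C]
        have hg₂' : (⊤ : Z.Opens) ≤ g₂ ⁻¹ᵁ (D.YU (i z')) := fun w _ => ((a₂ ≫ d z') w).2
        have hUV : (⊤ : Z.Opens) ≤ (g₂ ≫ y ≫ qS) ⁻¹ᵁ (D.U (i z) ⊓ D.U (i z')) := fun w _ =>
          ⟨hg₂ (x := w) trivial, hg₂' (x := w) trivial⟩
        have hUV' : (⊤ : Z.Opens) ≤ (h₀ ≫ D.qT t) ⁻¹ᵁ (D.U (i z) ⊓ D.U (i z')) := fun w _ =>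
          ⟨h0z (x := w) trivial, h0z' (x := w) trivial⟩
        rw [co_change (D.inv j) (D.isGen (i z) j) (D.isGen (i z') j) (D.qT t) (D.W t a j) h₀ h0z h0z' hUV',
          co_change (D.inv j) (D.isGen (i z) j) (D.isGen (i z') j) (y ≫ qS) (D.s j) g₂ hg₂ hg₂' hUV]
        have eq : h₀ ≫ D.qT t = g₂ ≫ y ≫ qS := by
          show h₀ ≫ pullback.fst πS t ≫ qS = _
          rw [← Category.assoc g₂, e₂]
          simp only [h₀, Category.assoc]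
        refine congrArg₂ (· * ·) ?_ ?_
        · exact congrArg (fun f : Γ(X, D.U (i z) ⊓ D.U (i z')) ⟶ Γ(Z, ⊤) =>
            f ((D.isGen (i z) j).coef inf_le_left (resM (D.Λ j) inf_le_right (D.gen (i z') j))))
            (appLE_congr eq _ hUV' hUV)
        · show D.C t h₀ h0z' a j = _
          rw [← phi_coord, ← D.comp_phi t (O z').ι (fun w _ => w.2) a₂ h₀ h₀' a h0z', ← hd z', ← Category.assoc]
          exact D.comp_jY' (a₂ ≫ d z') g₂ (Category.assoc _ _ _) hg₂' j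
    calc a₁ ≫ d z ≫ (D.YU (i z)).ι = (a₁ ≫ d z) ≫ (D.YU (i z)).ι := (Category.assoc _ _ _).symm
      _ = g₂ := by rw [e, IsOpenImmersion.lift_fac]
  let g : pullback πS t ⟶ Y := 𝒰.glueMorphisms (fun z => d z ≫ (D.YU (i z)).ι) fun z z' =>
    key z z' _ _ pullback.condition
  have hgz : ∀ z, (O z).ι ≫ g = d z ≫ (D.YU (i z)).ι := fun z => 𝒰.ι_glueMorphisms _ _ z
  refine ⟨g, 𝒰.hom_ext _ _ fun z => ?_, ?_⟩
  · show (O z).ι ≫ g ≫ y = (O z).ι ≫ pullback.fst πS t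
    rw [← Category.assoc, hgz, hy]
  · intro i₀ Z h hle hle' j
    -- check on the pieces
    have hO' : IsOpenCover fun z => h ⁻¹ᵁ O z := eq_top_iff.2 fun w _ => Opens.mem_iSup.2 ⟨h w, hi (h w)⟩
    refine TopCat.Sheaf.eq_of_locally_eq' Z.sheaf (fun z => h ⁻¹ᵁ O z) ⊤ (fun _ => homOfLE le_top) hO'.ge
      _ _ fun z => ?_
    have hb : Function.Injective (h ⁻¹ᵁ O z).topIso.inv :=
      (ConcreteCategory.bijective_of_isIso (h ⁻¹ᵁ O z).topIso.inv).1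
    apply hb
    let P := (h ⁻¹ᵁ O z)
    have hres : ∀ x : Γ(Z, ⊤), P.topIso.inv (Z.presheaf.map (homOfLE (le_top : P ≤ ⊤)).op x) = P.ι.appTop x := by
      intro x
      rw [← ConcreteCategory.comp_apply]
      refine congrArg (fun f : Γ(Z, ⊤) ⟶ Γ(P.toScheme, ⊤) => f x) ?_
      simp only [Scheme.Opens.topIso_inv, Scheme.Hom.appTop, Scheme.Opens.ι_app]
      exact (Z.presheaf.map_comp _ _).symm
    show P.topIso.inv _ = P.topIso.inv _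
    erw [hres, hres]
    let a₁ : P.toScheme ⟶ (O z).toScheme := h ∣_ (O z)
    have ha₁ : a₁ ≫ (O z).ι = P.ι ≫ h := morphismRestrict_ι h (O z)
    have hz1 : (⊤ : P.toScheme.Opens) ≤ (P.ι ≫ h) ⁻¹ᵁ (O z) := fun w _ => w.2
    have hz2 : (⊤ : P.toScheme.Opens) ≤ (P.ι ≫ h ≫ g) ⁻¹ᵁ (D.YU (i z)) := fun w _ => by
      show (P.ι ≫ h ≫ g) w ∈ D.YU (i z)
      rw [show P.ι ≫ h ≫ g = (a₁ ≫ d z) ≫ (D.YU (i z)).ι by rw [← Category.assoc, ← ha₁, Category.assoc, hgz, Category.assoc]]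
      exact ((a₁ ≫ d z) w).2
    have hUV : (⊤ : P.toScheme.Opens) ≤ ((P.ι ≫ h) ≫ D.qT t) ⁻¹ᵁ (D.U i₀ ⊓ D.U (i z)) := fun w _ =>
      ⟨hle (x := P.ι w) (Set.mem_univ _), w.2⟩
    have e4 : (a₁ ≫ d z) ≫ (D.YU (i z)).ι = P.ι ≫ h ≫ g := by
      rw [← Category.assoc P.ι, ← ha₁, Category.assoc, Category.assoc, hgz]
    have eqq : (P.ι ≫ h ≫ g) ≫ y ≫ qS = (P.ι ≫ h) ≫ D.qT t := by
      rw [← e4, ← ha₁]
      simp only [Category.assoc]
      rw [← Category.assoc (D.YU (i z)).ι, ← Category.assoc (d z), ← Category.assoc (d z) (D.YU (i z)).ι, hy,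
        Category.assoc]
    have h1 : (⊤ : P.toScheme.Opens) ≤ (P.ι ≫ h) ⁻¹ᵁ (D.qT t ⁻¹ᵁ D.U i₀) := fun w _ => hle (x := P.ι w) (Set.mem_univ _)
    have h2 : (⊤ : P.toScheme.Opens) ≤ (P.ι ≫ h ≫ g) ⁻¹ᵁ (D.YU i₀) := fun w _ => hle' (x := P.ι w) (Set.mem_univ _)
    have k1 := co_comp (D.inv j) (D.isGen i₀ j) (D.qT t) (D.W t a j) h hle P.ι h1
    have k2 := co_comp (D.inv j) (D.isGen i₀ j) (y ≫ qS) (D.s j) (h ≫ g) hle' P.ι h2
    refine k1.symm.trans (Eq.trans ?_ k2)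
    rw [co_change (D.inv j) (D.isGen i₀ j) (D.isGen (i z) j) (D.qT t) (D.W t a j) (P.ι ≫ h) h1 hz1 hUV,
      co_change (D.inv j) (D.isGen i₀ j) (D.isGen (i z) j) (y ≫ qS) (D.s j) (P.ι ≫ h ≫ g) h2 hz2
        (by rw [eqq]; exact hUV)]
    refine congrArg₂ (· * ·) ?_ ?_
    · exact congrArg (fun f : Γ(X, D.U i₀ ⊓ D.U (i z)) ⟶ Γ(P.toScheme, ⊤) =>
        f ((D.isGen i₀ j).coef inf_le_left (resM (D.Λ j) inf_le_right (D.gen (i z) j))))
        (appLE_congr eqq.symm _ hUV _)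
    · show D.C t (P.ι ≫ h) hz1 a j = _
      rw [← phi_coord, ← D.comp_phi t (O z).ι (fun w _ => w.2) a₁ (P.ι ≫ h) ha₁ a hz1, ← hd z, ← Category.assoc]
      exact D.comp_jY' (a₁ ≫ d z) _ e4 hz2 j

end Emb

end Groth.Agent.WeilProj8
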