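import Groth.Agent.WeilProj8.Chart
import Groth.Prelude.Def_FGA
import Mathlib.AlgebraicGeometry.AffineSpace

/-!
# Sections of affine schemes over projective families form an affine scheme, from an embedding
-/

set_option autoImplicit false
set_option linter.style.haveILetI false
set_option linter.unusedSectionVars false
set_option backward.isDefEq.respectTransparency false
set_option maxHeartbeats 1000000

universe u

open CategoryTheory CategoryTheory.Limits AlgebraicGeometry Opposite TopologicalSpace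

noncomputable section

namespace Groth.Agent.WeilProj8

/-- The functor of sections of `y` over the family `πS` is an affine scheme of finite presentation. -/
def IsWR {S XS Y : Scheme.{u}} (πS : XS ⟶ S) (y : Y ⟶ XS) : Prop :=
  ∃ (R : Over S) (g : PicF.XT πS R ⟶ Y), g ≫ y = pullback.fst πS R.hom ∧ IsAffineHom R.hom ∧
    LocallyOfFinitePresentation R.hom ∧
    ∀ (T : Over S) (h : PicF.XT πS T ⟶ Y), h ≫ y = pullback.fst πS T.hom →
      ∃! m : T ⟶ R, PicF.XTmap πS m ≫ g = h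

variable {k : Type u} [Field k] {X S XS Y : Scheme.{u}} {p : X ⟶ Spec (CommRingCat.of k)} [IsProper p]
  {σS : S ⟶ Spec (CommRingCat.of k)} {qS : XS ⟶ X} {πS : XS ⟶ S}
  (hsq : IsPullback qS πS p σS) {y : Y ⟶ XS} (D : Emb p σS qS πS y)

namespace Emb

variable {T T' : Over S} (m : T' ⟶ T)

theorem XTmap_qT : PicF.XTmap πS m ≫ D.qT T.hom = D.qT T'.hom := by
  show _ ≫ pullback.fst πS T.hom ≫ qS = pullback.fst πS T'.hom ≫ qS
  rw [← Category.assoc, FGA.XTmap_fst]

theorem XTmap_snd : PicF.XTmap πS m ≫ pullback.snd πS T.hom = pullback.snd πS T'.hom ≫ m.left :=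
  pullback.lift_snd _ _ _

theorem le_map {Z : Scheme.{u}} (h : Z ⟶ PicF.XT πS T') {i : D.I}
    (hle : (⊤ : Z.Opens) ≤ h ⁻¹ᵁ (D.qT T'.hom ⁻¹ᵁ D.U i)) :
    (⊤ : Z.Opens) ≤ (h ≫ PicF.XTmap πS m) ⁻¹ᵁ (D.qT T.hom ⁻¹ᵁ D.U i) := fun z _ => by
  show (D.qT T.hom) (PicF.XTmap πS m (h z)) ∈ D.U i
  rw [show (D.qT T.hom) (PicF.XTmap πS m (h z)) = D.qT T'.hom (h z) from congr($(XTmap_qT D m) (h z))]
  exact hle (x := z) trivial

theorem C_natural {Z : Scheme.{u}} (h : Z ⟶ PicF.XT πS T') {i : D.I}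
    (hle : (⊤ : Z.Opens) ≤ h ⁻¹ᵁ (D.qT T'.hom ⁻¹ᵁ D.U i)) (a : D.K → Γ(T.left, ⊤)) (j : D.J) :
    D.C T'.hom h hle (fun k => m.left.appTop (a k)) j =
      D.C T.hom (h ≫ PicF.XTmap πS m) (D.le_map m h hle) a j := by
  rw [C_eq, C_eq]
  refine Finset.sum_congr rfl fun l _ => congrArg₂ (· * ·) ?_ ?_
  · simp only [← ConcreteCategory.comp_apply, ← Scheme.Hom.comp_appTop, Category.assoc, XTmap_snd]
  · exact congrArg (fun f : Γ(X, D.U i) ⟶ Γ(Z, ⊤) => f _)
      (appLE_congr (by rw [Category.assoc, XTmap_qT]) _ _ _)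

theorem phi_natural {Z : Scheme.{u}} (h : Z ⟶ PicF.XT πS T') {i : D.I}
    (hle : (⊤ : Z.Opens) ≤ h ⁻¹ᵁ (D.qT T'.hom ⁻¹ᵁ D.U i)) (a : D.K → Γ(T.left, ⊤)) :
    D.phi T'.hom h hle (fun k => m.left.appTop (a k)) =
      D.phi T.hom (h ≫ PicF.XTmap πS m) (D.le_map m h hle) a := by
  refine D.ext_P _ _ ?_ fun j => ?_
  · rw [phi_over, phi_over, Category.assoc, FGA.XTmap_fst]
  · rw [phi_coord, phi_coord, C_natural]

theorem rel_natural {g : PicF.XT πS T ⟶ Y} {a : D.K → Γ(T.left, ⊤)} (ha : D.Rel T.hom g a) :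
    D.Rel T'.hom (PicF.XTmap πS m ≫ g) (fun k => m.left.appTop (a k)) := by
  intro i Z h hle hle' j
  rw [C_natural]
  exact (ha i Z _ (D.le_map m h hle) hle' j).trans (co_congr _ _ _ _ (Category.assoc _ _ _) _)

include hsq in
theorem exists_locus (hD : D.IsClosedEmb) [LocallyOfFinitePresentation y] (i : D.I) {R₀ : Over S}
    (a : D.K → Γ(R₀.left, ⊤)) :
    ∃ (Z : Scheme.{u}) (t : Z ⟶ R₀.left), IsClosedImmersion t ∧ LocallyOfFinitePresentation t ∧
      ∀ (T : Over S) (m : T ⟶ R₀),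
        (∀ (Z' : Scheme.{u}) (h : Z' ⟶ PicF.XT πS T) (hle : (⊤ : Z'.Opens) ≤ h ⁻¹ᵁ (D.qT T.hom ⁻¹ᵁ D.U i)),
          ∃ d : Z' ⟶ (D.YU i).toScheme, d ≫ D.jY i = D.phi T.hom h hle (fun k => m.left.appTop (a k))) ↔
        ∃ z : T.left ⟶ Z, z ≫ t = m.left := by
  haveI : IsAffine (D.U i) := D.aff i
  haveI : IsClosedImmersion (D.jY i) := hD i
  haveI : Finite D.J := D.finJ
  haveI : IsAffineHom ((D.U i).ι ≫ p) := isAffineHom_of_isAffine _
  haveI hjfp : LocallyOfFinitePresentation (D.jY i) := by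
    haveI : LocallyOfFinitePresentation (y ∣_ (qS ⁻¹ᵁ D.U i)) :=
      MorphismProperty.of_isPullback (P := @LocallyOfFinitePresentation)
        (isPullback_morphismRestrict y (qS ⁻¹ᵁ D.U i)).flip inferInstance
    haveI : LocallyOfFinitePresentation (D.jY i ≫ AffineSpace D.J (qS ⁻¹ᵁ D.U i).toScheme ↘ (qS ⁻¹ᵁ D.U i).toScheme) := by
      rw [jY, AffineSpace.homOfVector_over]
      infer_instance
    exact EGA43.Limit.locallyOfFinitePresentation_of_comp (D.jY i) (AffineSpace D.J (qS ⁻¹ᵁ D.U i).toScheme ↘ (qS ⁻¹ᵁ D.U i).toScheme)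
  let Zi := pullback ((D.U i).ι ≫ p) (R₀.hom ≫ σS)
  let fi : Zi ⟶ R₀.left := pullback.snd _ _
  let hR : Zi ⟶ PicF.XT πS R₀ := (D.isPullback_qT hsq R₀.hom).lift (pullback.fst _ _ ≫ (D.U i).ι) fi
    (by rw [Category.assoc, pullback.condition])
  have hRq : hR ≫ D.qT R₀.hom = pullback.fst _ _ ≫ (D.U i).ι := (D.isPullback_qT hsq R₀.hom).lift_fst _ _ _
  have hRs : hR ≫ pullback.snd πS R₀.hom = fi := (D.isPullback_qT hsq R₀.hom).lift_snd _ _ _
  have hRle : (⊤ : Zi.Opens) ≤ hR ⁻¹ᵁ (D.qT R₀.hom ⁻¹ᵁ D.U i) := fun z _ => by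
    show (hR ≫ D.qT R₀.hom) z ∈ D.U i
    rw [hRq]
    exact ((pullback.fst ((D.U i).ι ≫ p) (R₀.hom ≫ σS)) z).2
  let φ := D.phi R₀.hom hR hRle a
  let j := pullback.snd (D.jY i) φ
  have hf : SGA3x.IsEssentiallyFree fi :=
    S5356.result.2.2.2 _ _ _ ((D.U i).ι ≫ p) (R₀.hom ≫ σS) (S5356.result.2.2.1 k _ _)
  obtain ⟨Z, t, ht, hZ, hfp⟩ := SGA3cLib.WeilRes.exists_closedImmersion fi j hf
  refine ⟨Z, t, ht, hfp inferInstance (MorphismProperty.of_isPullback (P := @LocallyOfFinitePresentation)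
    (IsPullback.of_hasPullback (D.jY i) φ) hjfp), fun T m => Iff.trans ?_ (hZ T.left m.left)⟩
  constructor
  · intro H
    let P := pullback fi m.left
    let h : P ⟶ PicF.XT πS T := (D.isPullback_qT hsq T.hom).lift
      (pullback.fst fi m.left ≫ pullback.fst _ _ ≫ (D.U i).ι) (pullback.snd fi m.left) (by
        rw [Category.assoc, Category.assoc, pullback.condition, ← Over.w m]
        simp only [fi, Category.assoc, ← pullback.condition_assoc])
    have hq : h ≫ D.qT T.hom = pullback.fst fi m.left ≫ pullback.fst _ _ ≫ (D.U i).ι :=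
      (D.isPullback_qT hsq T.hom).lift_fst _ _ _
    have hs : h ≫ pullback.snd πS T.hom = pullback.snd fi m.left := (D.isPullback_qT hsq T.hom).lift_snd _ _ _
    have hle : (⊤ : P.Opens) ≤ h ⁻¹ᵁ (D.qT T.hom ⁻¹ᵁ D.U i) := fun z _ => by
      show (h ≫ D.qT T.hom) z ∈ D.U i
      rw [hq]
      exact ((pullback.fst fi m.left ≫ pullback.fst ((D.U i).ι ≫ p) (R₀.hom ≫ σS)) z).2
    have hμ : h ≫ PicF.XTmap πS m = pullback.fst fi m.left ≫ hR := by
      apply (D.isPullback_qT hsq R₀.hom).hom_ext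
      · rw [Category.assoc, XTmap_qT, hq, Category.assoc, hRq]
      · rw [Category.assoc, XTmap_snd, reassoc_of% hs, Category.assoc, hRs, pullback.condition]
    obtain ⟨d, hd⟩ := H P h hle
    rw [phi_natural] at hd
    have e : d ≫ D.jY i = pullback.fst fi m.left ≫ φ := by
      rw [hd]
      exact (D.comp_phi R₀.hom hR hRle _ _ hμ.symm a (D.le_map m h hle)).symm
    exact ⟨pullback.lift d (pullback.fst fi m.left) e, pullback.lift_snd _ _ _⟩
  · rintro ⟨l, hl⟩ Z' h hle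
    let e₁ : Z' ⟶ Zi := pullback.lift
      (IsOpenImmersion.lift (D.U i).ι (h ≫ D.qT T.hom) (by
        rw [Scheme.Opens.range_ι]
        rintro _ ⟨z, rfl⟩
        exact hle (x := z) trivial)) (h ≫ pullback.snd πS T.hom ≫ m.left) (by
        rw [IsOpenImmersion.lift_fac_assoc, Category.assoc, (D.isPullback_qT hsq T.hom).w,
          Category.assoc, Category.assoc, ← Category.assoc m.left, Over.w m])
    have he₁ : e₁ ≫ hR = h ≫ PicF.XTmap πS m := by
      apply (D.isPullback_qT hsq R₀.hom).hom_ext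
      · rw [Category.assoc, hRq, pullback.lift_fst_assoc, IsOpenImmersion.lift_fac, Category.assoc, XTmap_qT]
      · rw [Category.assoc, hRs, pullback.lift_snd, Category.assoc, XTmap_snd]
    let e₂ : Z' ⟶ pullback fi m.left := pullback.lift e₁ (h ≫ pullback.snd πS T.hom) (by
      rw [pullback.lift_snd, Category.assoc])
    refine ⟨e₂ ≫ l ≫ pullback.fst (D.jY i) φ, ?_⟩
    rw [Category.assoc, Category.assoc, pullback.condition, reassoc_of% hl, pullback.lift_fst_assoc, phi_natural]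
    exact D.comp_phi R₀.hom hR hRle e₁ _ he₁ a (D.le_map m h hle)

include hsq in
theorem isWR (hD : D.IsClosedEmb) [LocallyOfFinitePresentation y] : IsWR πS y := by
  classical
  haveI : Finite D.J := D.finJ
  haveI : Finite D.I := D.finI
  let R₀ : Over S := Over.mk (AffineSpace D.K S ↘ S)
  let a₀ : D.K → Γ(R₀.left, ⊤) := fun k => AffineSpace.coord S k
  choose Z t ht htfp hZ using fun i => D.exists_locus hsq hD i a₀
  have hinter : ∀ s : Finset D.I, ∃ (W : Scheme.{u}) (c : W ⟶ R₀.left), IsClosedImmersion c ∧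
      LocallyOfFinitePresentation c ∧ ∀ {T : Scheme.{u}} (x : T ⟶ R₀.left),
        (∀ i ∈ s, ∃ z, z ≫ t i = x) ↔ ∃ z, z ≫ c = x := by
    intro s
    induction s using Finset.induction_on with
    | empty =>
      exact ⟨R₀.left, 𝟙 _, inferInstance, inferInstance, fun x =>
        ⟨fun _ => ⟨x, Category.comp_id x⟩, fun _ i hi => absurd hi (Finset.notMem_empty i)⟩⟩
    | @insert i s _ ih =>
      obtain ⟨W, c, hc, hcfp, hW⟩ := ih
      haveI := ht i
      haveI := htfp i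
      refine ⟨pullback (t i) c, pullback.snd (t i) c ≫ c, inferInstance, inferInstance, fun {T} x => ?_⟩
      constructor
      · intro H
        obtain ⟨z₁, hz₁⟩ := H i (Finset.mem_insert_self i s)
        obtain ⟨z₂, hz₂⟩ := (hW x).1 fun j hj => H j (Finset.mem_insert_of_mem hj)
        exact ⟨pullback.lift z₁ z₂ (hz₁.trans hz₂.symm), by rw [pullback.lift_snd_assoc, hz₂]⟩
      · rintro ⟨z, hz⟩ j hj
        rcases Finset.mem_insert.1 hj with rfl | hj
        · exact ⟨z ≫ pullback.fst _ _, by rw [Category.assoc, pullback.condition, hz]⟩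
        · exact (hW x).2 ⟨z ≫ pullback.snd _ _, by rw [Category.assoc, hz]⟩ j hj
  letI := Fintype.ofFinite D.I
  obtain ⟨W, c, hc, hcfp, hW⟩ := hinter Finset.univ
  let R : Over S := Over.mk (c ≫ R₀.hom)
  let cO : R ⟶ R₀ := Over.homMk c rfl
  have hgood : ∀ {T : Over S} (m : T ⟶ R₀), D.Good T.hom (fun k => m.left.appTop (a₀ k)) ↔
      ∃ z : T.left ⟶ W, z ≫ c = m.left := fun {T} m =>
    ⟨fun H => (hW m.left).1 fun i _ => (hZ i T m).1 (H i),
      fun H i => (hZ i T m).2 ((hW m.left).2 H i (Finset.mem_univ i))⟩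
  obtain ⟨g, hg, hrel⟩ := D.exists_hom_of_good R.hom hD ((hgood cO).2 ⟨𝟙 W, Category.id_comp c⟩)
  haveI : IsAffineHom (AffineSpace D.K S ↘ S) := inferInstance
  refine ⟨R, g, hg, (inferInstance : IsAffineHom (c ≫ (AffineSpace D.K S ↘ S))),
    (inferInstance : LocallyOfFinitePresentation (c ≫ (AffineSpace D.K S ↘ S))), fun T h hh => ?_⟩
  obtain ⟨a, harel, hagood⟩ := D.exists_rel hsq T.hom h hh
  let m₀ : T ⟶ R₀ := Over.homMk (AffineSpace.homOfVector T.hom a) (AffineSpace.homOfVector_over _ _)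
  have ha : (fun k => m₀.left.appTop (a₀ k)) = a := funext fun k => AffineSpace.homOfVector_appTop_coord T.hom a k
  obtain ⟨z, hz⟩ := (hgood m₀).1 (ha.symm ▸ hagood)
  let mm : T ⟶ R := Over.homMk z (by
    show z ≫ c ≫ R₀.hom = T.hom
    rw [← Category.assoc, hz]
    exact Over.w m₀)
  have hmm : mm ≫ cO = m₀ := Over.OverMorphism.ext hz
  have hcoord : ∀ m : T ⟶ R, (fun k => m.left.appTop (cO.left.appTop (a₀ k))) =
      fun k => (m ≫ cO).left.appTop (a₀ k) := fun m => rfl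
  refine ⟨mm, ?_, fun m' hm' => ?_⟩
  · refine D.rel_unique_hom T.hom hD (by rw [Category.assoc, hg, FGA.XTmap_fst]) hh ?_ harel
    have := D.rel_natural mm hrel
    rw [hcoord, hmm, ha] at this
    exact this
  · have h1 := D.rel_natural m' hrel
    rw [hcoord, show PicF.XTmap πS m' ≫ g = h from hm'] at h1
    have h2 := D.rel_unique_coords hsq T.hom hh h1 harel
    haveI : Mono c := inferInstance
    refine Over.OverMorphism.ext ?_
    rw [← cancel_mono c]
    show (m' ≫ cO).left = z ≫ c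
    rw [hz]
    refine AffineSpace.hom_ext ?_ fun k => ?_
    · exact (Over.w (m' ≫ cO)).trans (Over.w m₀).symm
    · exact (congrFun h2 k).trans (congrFun ha k).symm

end Emb

end Groth.Agent.WeilProj8
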