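import Groth.Agent.HomSch8.Affine
import Groth.Agent.RelVALib.UPFunctor
import Groth.Agent.CohExch.FlatBC0
import Groth.Agent.CubeLib.GlobalSec

/-!
# Coordinates of sections of invertible modules on families over a field
-/

set_option autoImplicit false
set_option linter.style.haveILetI false
set_option linter.unusedSectionVars false
set_option backward.isDefEq.respectTransparency false
set_option maxHeartbeats 1000000

universe u

open CategoryTheory CategoryTheory.Limits AlgebraicGeometry Opposite TopologicalSpace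
open Groth.Agent.Coherent Groth.Agent.PicLib

noncomputable section

namespace Groth.Agent.WeilProj8

variable {X Y Z Z' : Scheme.{u}} {Λ : X.Modules} (hΛ : PicF.IsInvertible Λ)
  {U V : X.Opens} {σ : Γ(Λ, U)} (hσ : IsGen Λ U σ)

/-- The coordinate on `Z` of a section in the pullback of a generator. -/
def co (f : Y ⟶ X) (x : Γ((Scheme.Modules.pullback f).obj Λ, ⊤)) (h : Z ⟶ Y)
    (hle : (⊤ : Z.Opens) ≤ h ⁻¹ᵁ (f ⁻¹ᵁ U)) : Γ(Z, ⊤) :=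
  h.appLE (f ⁻¹ᵁ U) ⊤ hle ((isGen_pullSec f hσ hΛ).coef le_rfl (resM _ le_top x))

theorem co_res (f : Y ⟶ X) (x : Γ((Scheme.Modules.pullback f).obj Λ, ⊤)) (h : Z ⟶ Y) {W : Y.Opens}
    (hW : W ≤ f ⁻¹ᵁ U) (hle : (⊤ : Z.Opens) ≤ h ⁻¹ᵁ W) :
    co hΛ hσ f x h (hle.trans ((Opens.map h.base).map (homOfLE hW)).le) =
      h.appLE W ⊤ hle ((isGen_pullSec f hσ hΛ).coef hW (resM _ le_top x)) := by
  have h1 := (isGen_pullSec f hσ hΛ).coef_res (le_refl (f ⁻¹ᵁ U)) hW (resM _ le_top x)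
  rw [resM_resM] at h1
  rw [h1]
  exact (ConcreteCategory.congr_hom (Scheme.Hom.map_appLE h hle (homOfLE hW).op) _).symm

theorem co_comp (f : Y ⟶ X) (x : Γ((Scheme.Modules.pullback f).obj Λ, ⊤)) (h : Z ⟶ Y)
    (hle : (⊤ : Z.Opens) ≤ h ⁻¹ᵁ (f ⁻¹ᵁ U)) (m : Z' ⟶ Z) (hle' : (⊤ : Z'.Opens) ≤ (m ≫ h) ⁻¹ᵁ (f ⁻¹ᵁ U)) :
    co hΛ hσ f x (m ≫ h) hle' = m.appTop (co hΛ hσ f x h hle) := by
  have e := Scheme.Hom.appLE_comp_appLE m h (f ⁻¹ᵁ U) ⊤ ⊤ hle (fun _ _ => trivial)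
  rw [Scheme.Hom.appTop, Scheme.Hom.app_eq_appLE]
  exact ConcreteCategory.congr_hom e.symm _

theorem co_add (f : Y ⟶ X) (x x' : Γ((Scheme.Modules.pullback f).obj Λ, ⊤)) (h : Z ⟶ Y)
    (hle : (⊤ : Z.Opens) ≤ h ⁻¹ᵁ (f ⁻¹ᵁ U)) :
    co hΛ hσ f (x + x') h hle = co hΛ hσ f x h hle + co hΛ hσ f x' h hle := by
  simp only [co, map_add, IsGen.coef_add]

theorem co_smul (f : Y ⟶ X) (r : Γ(Y, ⊤)) (x : Γ((Scheme.Modules.pullback f).obj Λ, ⊤)) (h : Z ⟶ Y)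
    (hle : (⊤ : Z.Opens) ≤ h ⁻¹ᵁ (f ⁻¹ᵁ U)) :
    co hΛ hσ f (r • x) h hle = h.appTop r * co hΛ hσ f x h hle := by
  simp only [co, resM_smul, IsGen.coef_smul, map_mul]
  refine congrArg (· * _) ?_
  refine (ConcreteCategory.congr_hom (Scheme.Hom.map_appLE h hle (homOfLE le_top).op) r).trans ?_
  rw [Scheme.Hom.appTop, Scheme.Hom.app_eq_appLE]
  rfl

theorem co_sum {ι : Type*} (s : Finset ι) (f : Y ⟶ X) (x : ι → Γ((Scheme.Modules.pullback f).obj Λ, ⊤))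
    (h : Z ⟶ Y) (hle : (⊤ : Z.Opens) ≤ h ⁻¹ᵁ (f ⁻¹ᵁ U)) :
    co hΛ hσ f (∑ i ∈ s, x i) h hle = ∑ i ∈ s, co hΛ hσ f (x i) h hle :=
  map_sum (AddMonoidHom.mk' (fun z => co hΛ hσ f z h hle) fun a b => co_add hΛ hσ f a b h hle) x s

theorem co_pullSec (f : Y ⟶ X) (t : Γ(Λ, ⊤)) (h : Z ⟶ Y) (hle : (⊤ : Z.Opens) ≤ h ⁻¹ᵁ (f ⁻¹ᵁ U)) :
    co hΛ hσ f (pullSec f t) h hle = (h ≫ f).appLE U ⊤ hle (hσ.coef le_rfl (resM Λ le_top t)) := by
  have h1 : (isGen_pullSec f hσ hΛ).coef le_rfl (resM _ (le_top : f ⁻¹ᵁ U ≤ ⊤) (pullSec f t)) =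
      f.app U (hσ.coef le_rfl (resM Λ le_top t)) := by
    refine (isGen_pullSec f hσ hΛ).coef_eq le_rfl ?_
    rw [resM_self, ← pullSec_smul]
    have e := hσ.coef_spec le_rfl (resM Λ (le_top : U ≤ ⊤) t)
    rw [resM_self] at e
    rw [e, ← resM_pullSec]
    rfl
  rw [co, h1, Scheme.Hom.app_eq_appLE]
  exact ConcreteCategory.congr_hom (Scheme.Hom.appLE_comp_appLE h f U (f ⁻¹ᵁ U) ⊤ le_rfl hle) _

/-- Change of generator. -/
theorem co_change {σ' : Γ(Λ, V)} (hσ' : IsGen Λ V σ') (f : Y ⟶ X) (x : Γ((Scheme.Modules.pullback f).obj Λ, ⊤))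
    (h : Z ⟶ Y) (hle : (⊤ : Z.Opens) ≤ h ⁻¹ᵁ (f ⁻¹ᵁ U)) (hle' : (⊤ : Z.Opens) ≤ h ⁻¹ᵁ (f ⁻¹ᵁ V))
    (hUV : (⊤ : Z.Opens) ≤ (h ≫ f) ⁻¹ᵁ (U ⊓ V)) :
    co hΛ hσ f x h hle = (h ≫ f).appLE (U ⊓ V) ⊤ hUV (hσ.coef inf_le_left (resM Λ inf_le_right σ')) *
      co hΛ hσ' f x h hle' := by
  have hW : (⊤ : Z.Opens) ≤ h ⁻¹ᵁ (f ⁻¹ᵁ (U ⊓ V)) := hUV
  rw [co_res hΛ hσ f x h ((Opens.map f.base).map (homOfLE inf_le_left)).le hW,
    co_res hΛ hσ' f x h ((Opens.map f.base).map (homOfLE (inf_le_right : U ⊓ V ≤ V))).le hW,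
    ← Scheme.Hom.appLE_comp_appLE h f (U ⊓ V) (f ⁻¹ᵁ (U ⊓ V)) ⊤ le_rfl hW, ConcreteCategory.comp_apply,
    ← map_mul]
  refine congrArg _ ((isGen_pullSec f hσ hΛ).coef_eq _ ?_)
  conv_rhs => rw [← (isGen_pullSec f hσ' hΛ).coef_spec ((Opens.map f.base).map (homOfLE (inf_le_right : U ⊓ V ≤ V))).le (resM _ (le_top : f ⁻¹ᵁ (U ⊓ V) ≤ ⊤) x)]
  rw [mul_comm, mul_smul]
  refine congrArg₂ (fun (a : Γ(Y, f ⁻¹ᵁ (U ⊓ V))) (z : Γ((Scheme.Modules.pullback f).obj Λ, f ⁻¹ᵁ (U ⊓ V))) => a • z) rfl ?_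
  rw [← Scheme.Hom.app_eq_appLE, resM_pullSec f inf_le_left, ← pullSec_smul, hσ.coef_spec]
  exact (resM_pullSec f inf_le_right σ').symm

/-- Sections are determined by their coordinates on a cover. -/
theorem eq_of_co_eq (f : Y ⟶ X) (x x' : Γ((Scheme.Modules.pullback f).obj Λ, ⊤))
    (h : ∀ y : Y, ∃ (U : X.Opens) (σ : Γ(Λ, U)) (hσ : IsGen Λ U σ), f y ∈ U ∧
      co hΛ hσ f x (f ⁻¹ᵁ U).ι (fun z _ => z.2) = co hΛ hσ f x' (f ⁻¹ᵁ U).ι (fun z _ => z.2)) : x = x' := by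
  choose U σ hσ hy hco using h
  refine TopCat.Sheaf.eq_of_locally_eq' (⟨((Scheme.Modules.pullback f).obj Λ).presheaf,
    ((Scheme.Modules.pullback f).obj Λ).isSheaf⟩ : TopCat.Sheaf Ab Y) (fun y => f ⁻¹ᵁ U y) ⊤
    (fun y => homOfLE le_top) (fun y _ => Opens.mem_iSup.2 ⟨y, hy y⟩) x x' fun y => ?_
  show resM _ le_top x = resM _ le_top x'
  have hb : Function.Injective ((f ⁻¹ᵁ U y).ι.appLE (f ⁻¹ᵁ U y) ⊤ (fun z _ => z.2)) := by
    haveI : IsIso ((f ⁻¹ᵁ U y).ι.app (f ⁻¹ᵁ U y)) :=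
      (f ⁻¹ᵁ U y).ι.isIso_app _ (by rw [Scheme.Opens.opensRange_ι])
    have e0 : (⊤ : (f ⁻¹ᵁ U y).toScheme.Opens) = (f ⁻¹ᵁ U y).ι ⁻¹ᵁ (f ⁻¹ᵁ U y) := (Scheme.Opens.ι_preimage_self _).symm
    rw [Scheme.Hom.appLE, Subsingleton.elim (homOfLE _) (eqToHom e0)]
    exact (ConcreteCategory.bijective_of_isIso _).1
  have e : (isGen_pullSec f (hσ y) hΛ).coef le_rfl (resM _ le_top x) =
      (isGen_pullSec f (hσ y) hΛ).coef le_rfl (resM _ le_top x') := hb (hco y)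
  rw [← (isGen_pullSec f (hσ y) hΛ).coef_spec le_rfl (resM _ le_top x), e, IsGen.coef_spec]

/-- A morphism transports sections. -/
theorem exists_transport {W : Scheme.{u}} (q : W ⟶ X) (r : Y ⟶ X) (g : W ⟶ Y) (hg : g ≫ r = q)
    (s : Γ((Scheme.Modules.pullback r).obj Λ, ⊤)) :
    ∃ w : Γ((Scheme.Modules.pullback q).obj Λ, ⊤), ∀ (U : X.Opens) (σ : Γ(Λ, U)) (hσ : IsGen Λ U σ)
      (Z : Scheme.{u}) (h : Z ⟶ W) (hle : (⊤ : Z.Opens) ≤ h ⁻¹ᵁ (q ⁻¹ᵁ U))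
      (hle' : (⊤ : Z.Opens) ≤ (h ≫ g) ⁻¹ᵁ (r ⁻¹ᵁ U)),
      co hΛ hσ q w h hle = co hΛ hσ r s (h ≫ g) hle' := by
  obtain ⟨c, hc⟩ := RelVALib.exists_compIso g r q hg Λ
  refine ⟨c.inv.app ⊤ (show Γ((Scheme.Modules.pullback g).obj ((Scheme.Modules.pullback r).obj Λ), ⊤) from pullSec g s),
    fun U σ hσ Z h hle hle' => ?_⟩
  have hqr : q ⁻¹ᵁ U = g ⁻¹ᵁ (r ⁻¹ᵁ U) := by rw [← hg]; rfl
  let a := (isGen_pullSec r hσ hΛ).coef le_rfl (resM _ (le_top : r ⁻¹ᵁ U ≤ ⊤) s)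
  have h1 : (isGen_pullSec q hσ hΛ).coef le_rfl (resM _ (le_top : q ⁻¹ᵁ U ≤ ⊤) (c.inv.app ⊤
      (show Γ((Scheme.Modules.pullback g).obj ((Scheme.Modules.pullback r).obj Λ), ⊤) from pullSec g s))) =
      g.appLE (r ⁻¹ᵁ U) (q ⁻¹ᵁ U) hqr.le a := by
    refine (isGen_pullSec q hσ hΛ).coef_eq le_rfl ?_
    rw [resM_self]
    apply (ConcreteCategory.bijective_of_isIso (C := AddCommGrpCat) (c.hom.app (q ⁻¹ᵁ U))).1
    rw [Scheme.Modules.Hom.app_smul, hc U σ hqr.le, app_resM c.hom le_top]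
    refine Eq.trans ?_ (congrArg (resM _ le_top) (congrArg (fun z : (Scheme.Modules.pullback g).obj ((Scheme.Modules.pullback r).obj Λ) ⟶ (Scheme.Modules.pullback g).obj ((Scheme.Modules.pullback r).obj Λ) => z.app ⊤ (pullSec g s)) c.inv_hom_id).symm)
    show _ = resM _ le_top (pullSec g s)
    have e := (isGen_pullSec r hσ hΛ).coef_spec le_rfl (resM _ (le_top : r ⁻¹ᵁ U ≤ ⊤) s)
    rw [resM_self] at e
    refine Eq.trans ?_ ((congrArg (resM _ hqr.le) (resM_pullSec g (le_top : r ⁻¹ᵁ U ≤ ⊤) s).symm).trans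
      (resM_resM _ _ _ _))
    rw [← e, pullSec_smul, resM_smul]
    refine congrArg (· • _) ?_
    rw [Scheme.Hom.app_eq_appLE, ← ConcreteCategory.comp_apply, Scheme.Hom.appLE_map]
  rw [co, co, h1, ← ConcreteCategory.comp_apply, Scheme.Hom.appLE_comp_appLE]

section Basis

variable {k : Type u} [Field k] {p : X ⟶ Spec (CommRingCat.of k)} [IsProper p] {h : ℕ}
  {t : ULift.{u} (Fin h) → Γ(Λ, ⊤)}

theorem exists_basis (p : X ⟶ Spec (CommRingCat.of k)) [IsProper p] {Λ : X.Modules} (hΛ : Coh.IsCoh Λ) :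
    ∃ (h : ℕ) (t : ULift.{u} (Fin h) → Γ(Λ, ⊤)),
      IsBasisOn ((Scheme.Modules.pushforward p).obj Λ) ⊤ t := by
  classical
  haveI : IsLocallyNoetherian X := LocallyOfFiniteType.isLocallyNoetherian p
  let N := (Scheme.Modules.pushforward p).obj Λ
  obtain ⟨hq, hfin⟩ := (isCoh_iff_finite_sections N).1 (Existence.isCoh_push_of_isProper p hΛ)
  let R := Γ(Spec (CommRingCat.of k), ⊤)
  have hR : IsField R := MulEquiv.isField (Field.toIsField k)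
    (Scheme.ΓSpecIso (CommRingCat.of k)).commRingCatIsoToRingEquiv.toMulEquiv
  letI : Field R := hR.toField
  haveI : Module.Finite R Γ(N, ⊤) := hfin ⊤ (isAffineOpen_top _)
  let b := Module.finBasis R Γ(N, ⊤)
  refine ⟨_, fun i => b i.down, fun V hV => ?_⟩
  rcases V.eq_bot_or_top with rfl | rfl
  · haveI : Subsingleton Γ(Spec (CommRingCat.of k), ⊥) :=
      CommRingCat.subsingleton_of_isTerminal ((Spec (CommRingCat.of k)).sheaf.isTerminalOfEmpty)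
    haveI : Subsingleton Γ(N, ⊥) := Module.subsingleton Γ(Spec (CommRingCat.of k), ⊥) _
    exact ⟨fun a a' _ => Subsingleton.elim _ _, fun y => ⟨0, Subsingleton.elim _ _⟩⟩
  · convert b.equivFun.symm.bijective.comp
      (Equiv.arrowCongr Equiv.ulift.{u} (Equiv.refl R)).bijective using 1
    funext c
    simp only [Function.comp_apply, Module.Basis.equivFun_symm_apply, resM_self]
    exact Fintype.sum_equiv Equiv.ulift _ _ fun _ => rfl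

variable (ht : IsBasisOn ((Scheme.Modules.pushforward p).obj Λ) ⊤ t)

include ht hΛ in
theorem bijective_secs {T XT : Scheme.{u}} {g : T ⟶ Spec (CommRingCat.of k)} {q : XT ⟶ X} {π : XT ⟶ T}
    (hsq : IsPullback q π p g) :
    Function.Bijective fun a : ULift.{u} (Fin h) → Γ(T, ⊤) =>
      ∑ i, π.appTop (a i) • (show Γ((Scheme.Modules.pullback q).obj Λ, ⊤) from pullSec q (t i)) := by
  haveI : Flat g := CubeLib.flat_of_field g
  haveI : Coh.IsQCoh Λ := AmpleLib.isQCoh_of_isInvertible hΛ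
  haveI := CohExch.isIso_bc0_of_flat_morphism hsq Λ
  let β := CohBC.bc0 p g π q hsq.w Λ
  have hle : (⊤ : T.Opens) ≤ g ⁻¹ᵁ ⊤ := fun x _ => trivial
  have h1 := (IsBasisOn.pull g ht) hle
  have h2 := ConcreteCategory.bijective_of_isIso (C := AddCommGrpCat) (β.app ⊤)
  suffices heq : (fun a : ULift.{u} (Fin h) → Γ(T, ⊤) =>
      ∑ i, π.appTop (a i) • (show Γ((Scheme.Modules.pullback q).obj Λ, ⊤) from pullSec q (t i))) =
      fun a => β.app ⊤ (∑ i, a i • resM _ hle (pullSec g (t i))) from heq ▸ h2.comp h1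
  funext a
  simp only [map_sum, Scheme.Modules.Hom.app_smul]
  refine Finset.sum_congr rfl fun i _ => ?_
  refine congrArg₂ (fun (c : Γ(XT, ⊤)) (z : Γ((Scheme.Modules.pullback q).obj Λ, ⊤)) => c • z) rfl ?_
  rw [app_resM β]
  rw [CohExch.bc0_pullSec hsq.w Λ ⊤ (t i)]
  refine Eq.symm ?_
  exact (resM_resM ((Scheme.Modules.pullback q).obj Λ) _ _ _).trans (resM_self _ _ _)

end Basis

end Groth.Agent.WeilProj8
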